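import Cfsg.Agent.Chev.Subfield.Check

/-! The certificates for the checks of `Subfield.Check`. -/

set_option autoImplicit false

namespace CfsgLib.Chev.SubfieldMax

open Cfsg.Lie

/-- The orbit of the highest root of `G2`. -/
def orbG2 : List (ℕ × ℕ) :=
  [(1, 11), (0, 10), (1, 6), (0, 5), (1, 1)]

/-- The derivation of the basis vectors of `G2`. -/
def spG2 : List SpanStep :=
  [.word [6] 5 13, .word [7] 13 7, .refl 0 7, .refl 1 4, .refl 0 3, .refl 1 7, .refl 0 8,
    .word [7] 4 12]

theorem frameG2 : chkFrame G2Data.tab orbG2 spG2 = true := by decide +kernel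

/-- The orbit of the highest root of `B2`. -/
def orbB2 : List (ℕ × ℕ) :=
  [(0, 7), (1, 4), (0, 3)]

/-- The derivation of the basis vectors of `B2`. -/
def spB2 : List SpanStep :=
  [.word [5] 0 1, .refl 1 1, .refl 0 2, .refl 1 5, .word [5] 2 8, .word [4] 3 9]

theorem frameB2 : chkFrame B2Data.tab orbB2 spB2 = true := by decide +kernel

/-- The orbit of the highest root of `D4`. -/
def orbD4 : List (ℕ × ℕ) :=
  [(1, 23), (0, 22), (2, 17), (0, 15), (1, 15), (3, 12), (1, 11), (0, 8), (2, 3), (0, 1), (1,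
    1), (3, 6), (0, 7), (1, 7), (2, 10), (1, 13), (0, 16), (2, 21), (0, 19), (1, 14), (0, 9),
    (1, 4), (0, 5)]

/-- The derivation of the basis vectors of `D4`. -/
def spD4 : List SpanStep :=
  [.word [18] 5 24, .word [14] 9 25, .word [13] 10 26, .word [12] 11 27]

theorem frameD4 : chkFrame D4Data.tab orbD4 spD4 = true := by decide +kernel

/-- The orbit of the highest root of `F4`. -/
def orbF4 : List (ℕ × ℕ) :=
  [(3, 47), (2, 46), (1, 45), (0, 43), (2, 32), (0, 31), (1, 31), (2, 26), (3, 24), (2, 23),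
    (1, 21), (0, 16), (2, 5), (0, 4), (1, 4), (2, 2), (3, 1), (3, 5), (0, 6), (1, 17), (2, 22),
    (1, 25), (0, 30)]

/-- The derivation of the basis vectors of `F4`. -/
def spF4 : List SpanStep :=
  [.word [33] 30 37, .refl 1 37, .refl 0 35, .refl 2 28, .refl 0 27, .refl 1 34, .refl 0 33,
    .refl 1 14, .refl 0 13, .refl 2 20, .refl 0 19, .refl 1 12, .refl 3 10, .refl 1 9,
    .refl 0 11, .refl 2 9, .refl 1 8, .refl 0 7, .refl 3 28, .refl 0 29, .refl 1 36,
    .refl 2 38, .refl 1 39, .refl 0 40, .word [33] 14 48, .word [27] 20 49, .word [25] 22 50,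
    .word [24] 23 51]

theorem frameF4 : chkFrame F4Data.tab orbF4 spF4 = true := by decide +kernel

/-- The orbit of the highest root of `E6`. -/
def orbE6 : List (ℕ × ℕ) :=
  [(1, 71), (3, 70), (2, 69), (0, 66), (4, 55), (0, 54), (2, 65), (3, 65), (0, 63), (1, 52),
    (0, 45), (2, 45), (1, 41), (3, 41), (4, 38), (5, 36), (4, 35), (3, 33), (1, 30), (2, 22),
    (0, 19), (1, 8), (0, 11), (3, 8), (0, 6), (2, 6), (4, 3), (2, 2), (0, 5), (3, 2), (1, 1),
    (5, 3), (2, 4), (0, 7), (3, 18), (0, 20), (1, 9), (0, 12), (2, 27), (1, 31), (3, 31), (4,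
    34), (3, 37), (1, 40), (2, 48), (0, 51), (1, 62), (0, 59), (3, 62), (0, 64), (2, 64), (4,
    44), (0, 43), (1, 58), (0, 61), (2, 50), (1, 47), (3, 39), (1, 32), (2, 24), (0, 21), (1,
    10), (0, 13), (3, 28), (0, 29), (2, 14), (0, 15), (2, 56), (0, 57), (3, 24), (1, 25)]

/-- The derivation of the basis vectors of `E6`. -/
def spE6 : List SpanStep :=
  [.word [56] 15 72, .word [46] 25 73, .word [42] 29 74, .word [39] 32 75, .word [37] 34 76,
    .word [36] 35 77]

theorem frameE6 : chkFrame E6Data.tab orbE6 spE6 = true := by decide +kernel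

/-- The orbit of the highest root of `E7`. -/
def orbE7 : List (ℕ × ℕ) :=
  [(0, 125), (2, 124), (3, 123), (1, 122), (4, 118), (1, 117), (3, 117), (2, 114), (0, 108),
    (5, 92), (0, 91), (2, 107), (3, 113), (1, 116), (4, 113), (2, 111), (0, 105), (3, 89), (0,
    86), (1, 102), (0, 98), (2, 77), (1, 72), (3, 72), (4, 68), (5, 65), (6, 63), (5, 62), (4,
    60), (3, 57), (1, 53), (2, 43), (0, 39), (1, 23), (0, 27), (3, 23), (0, 20), (2, 20), (4,
    14), (2, 12), (0, 18), (3, 12), (1, 9), (5, 5), (1, 4), (3, 8), (2, 11), (0, 17), (4, 8),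
    (1, 7), (3, 3), (2, 2), (0, 1), (6, 5), (1, 6), (3, 10), (2, 13), (0, 19), (4, 35), (0,
    37), (2, 21), (3, 21), (0, 24), (1, 40), (0, 49), (2, 49), (1, 54), (3, 54), (4, 58), (5,
    61), (4, 64), (3, 67), (1, 71), (2, 81), (0, 85), (1, 101), (0, 97), (3, 101), (0, 104),
    (2, 104), (4, 110), (2, 112), (0, 106), (3, 112), (1, 115), (5, 110), (2, 109), (0, 103),
    (3, 87), (0, 84), (1, 100), (0, 96), (2, 75), (1, 70), (3, 70), (4, 66), (3, 59), (1, 55),
    (2, 45), (0, 41), (1, 25), (0, 29), (3, 25), (0, 22), (2, 22), (4, 50), (0, 51), (1, 30),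
    (0, 26), (2, 42), (1, 46), (3, 56), (1, 69), (2, 79), (0, 83), (1, 99), (0, 95), (3, 74),
    (0, 73), (2, 94), (0, 93), (2, 32), (0, 31), (3, 79), (1, 78)]

/-- The derivation of the basis vectors of `E7`. -/
def spE7 : List SpanStep :=
  [.word [93] 32 126, .word [78] 47 127, .word [73] 52 128, .word [69] 56 129,
    .word [66] 59 130, .word [64] 61 131, .word [63] 62 132]

theorem frameE7 : chkFrame E7Data.tab orbE7 spE7 = true := by decide +kernel

/-- The orbit of the highest root of `E8`. -/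
def orbE8 : List (ℕ × ℕ) :=
  [(7, 239), (6, 238), (5, 237), (4, 236), (3, 235), (1, 234), (2, 232), (0, 231), (1, 224),
    (0, 225), (3, 224), (0, 223), (2, 223), (4, 218), (2, 217), (0, 222), (3, 217), (1, 213),
    (5, 203), (1, 202), (3, 212), (2, 216), (0, 221), (4, 212), (1, 209), (3, 199), (2, 193),
    (0, 183), (6, 161), (0, 160), (2, 182), (3, 192), (1, 198), (4, 208), (1, 211), (3, 211),
    (2, 215), (0, 220), (5, 208), (1, 206), (3, 196), (2, 190), (0, 180), (4, 158), (0, 155),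
    (2, 177), (3, 177), (0, 173), (1, 151), (0, 140), (2, 140), (1, 134), (3, 134), (4, 129),
    (5, 125), (6, 122), (7, 120), (6, 119), (5, 117), (4, 114), (3, 110), (1, 105), (2, 93),
    (0, 88), (1, 66), (0, 71), (3, 66), (0, 62), (2, 62), (4, 52), (2, 49), (0, 59), (3, 49),
    (1, 43), (5, 33), (1, 31), (3, 41), (2, 47), (0, 57), (4, 41), (1, 38), (3, 28), (2, 24),
    (0, 19), (6, 12), (0, 11), (2, 18), (3, 23), (1, 27), (4, 37), (1, 40), (3, 40), (2, 46),
    (0, 56), (5, 37), (1, 36), (3, 26), (2, 22), (0, 17), (4, 10), (0, 9), (2, 16), (3, 16),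
    (0, 15), (1, 8), (0, 6), (2, 6), (1, 5), (3, 5), (4, 4), (5, 3), (6, 2), (7, 1), (7, 12),
    (0, 13), (2, 20), (3, 25), (1, 29), (4, 39), (1, 42), (3, 42), (2, 48), (0, 58), (5, 80),
    (0, 82), (2, 60), (3, 50), (1, 44), (4, 50), (2, 53), (0, 63), (3, 85), (0, 89), (1, 67),
    (0, 72), (2, 100), (1, 106), (3, 106), (4, 111), (5, 115), (6, 118), (5, 121), (4, 124),
    (3, 128), (1, 133), (2, 145), (0, 150), (1, 172), (0, 167), (3, 172), (0, 176), (2, 176),
    (4, 186), (2, 189), (0, 179), (3, 189), (1, 195), (5, 205), (1, 207), (3, 197), (2, 191),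
    (0, 181), (4, 197), (1, 200), (3, 210), (2, 214), (0, 219), (6, 205), (1, 204), (3, 194),
    (2, 188), (0, 178), (4, 156), (0, 153), (2, 175), (3, 175), (0, 171), (1, 149), (0, 138),
    (2, 138), (1, 132), (3, 132), (4, 127), (5, 123), (4, 116), (3, 112), (1, 107), (2, 95),
    (0, 90), (1, 68), (0, 73), (3, 68), (0, 64), (2, 64), (4, 54), (2, 51), (0, 61), (3, 51),
    (1, 45), (5, 54), (2, 55), (0, 65), (3, 87), (0, 91), (1, 69), (0, 74), (2, 102), (1, 108),
    (3, 108), (4, 113), (3, 126), (1, 131), (2, 143), (0, 148), (1, 170), (0, 165), (3, 170),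
    (0, 174), (2, 174), (4, 137), (0, 136), (1, 164), (0, 169), (2, 147), (1, 142), (3, 130),
    (1, 109), (2, 97), (0, 92), (1, 70), (0, 75), (3, 103), (0, 104), (2, 76), (0, 77), (2,
    162), (0, 163), (3, 97), (1, 98)]

/-- The derivation of the basis vectors of `E8`. -/
def spE8 : List SpanStep :=
  [.word [162] 77 240, .word [141] 98 241, .word [135] 104 242, .word [130] 109 243,
    .word [126] 113 244, .word [123] 116 245, .word [121] 118 246, .word [120] 119 247]

set_option maxHeartbeats 4000000 in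
theorem frameE8 : chkFrame E8Data.tab orbE8 spE8 = true := by decide +kernel

end CfsgLib.Chev.SubfieldMax
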