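import Mathlib
import Cfsg.Agent.Coprime.Generation

/-!
A finite subgroup of `SL₂` with a non-cyclic group of upper unitriangular elements and a lower
triangular element has an upper triangular element whose eigenvalue does not square to one.
-/

set_option autoImplicit false
set_option linter.style.haveILetI false

namespace CfsgLib.Chev.SubfieldMax

open Matrix

variable {K : Type*} [Field K]

theorem mul_entry (g h : SpecialLinearGroup (Fin 2) K) (i j : Fin 2) :
    (g * h).1 i j = g.1 i 0 * h.1 0 j + g.1 i 1 * h.1 1 j := by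
  show (g.1 * h.1) i j = _
  rw [Matrix.mul_apply, Fin.sum_univ_two]

theorem inv_entry (g : SpecialLinearGroup (Fin 2) K) :
    g⁻¹.1 = !![g.1 1 1, -g.1 0 1; -g.1 1 0, g.1 0 0] := by
  exact Matrix.adjugate_fin_two _

theorem det_two (g : SpecialLinearGroup (Fin 2) K) : g.1 0 0 * g.1 1 1 - g.1 0 1 * g.1 1 0 = 1 := by
  rw [← Matrix.det_fin_two]
  exact g.2

theorem ext_two {g h : SpecialLinearGroup (Fin 2) K} (h00 : g.1 0 0 = h.1 0 0)
    (h01 : g.1 0 1 = h.1 0 1) (h10 : g.1 1 0 = h.1 1 0) (h11 : g.1 1 1 = h.1 1 1) : g = h := by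
  refine Subtype.ext (Matrix.ext fun i j => ?_)
  fin_cases i <;> fin_cases j <;> assumption

/-- The element of `S` sought. -/
theorem exists_upper (p : ℕ) [Fact p.Prime] [CharP K p] (S : Subgroup (SpecialLinearGroup (Fin 2) K))
    [Finite S] {a b : SpecialLinearGroup (Fin 2) K} (ha : a ∈ S) (hb : b ∈ S) {β c : K}
    (ha' : a.1 = !![1, 1; 0, 1]) (hb' : b.1 = !![1, β; 0, 1]) (hβ : ∀ n : ℕ, (n : K) ≠ β)
    {l : SpecialLinearGroup (Fin 2) K} (hl : l ∈ S) (hl' : l.1 1 0 = c) (hc : c ≠ 0) :
    ∃ d ∈ S, d.1 1 0 = 0 ∧ d.1 0 0 * d.1 0 0 ≠ 1 := by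
  classical
  by_contra hno
  simp only [not_exists, not_and, not_not] at hno
  let U : Subgroup S :=
    { carrier := {g | g.1.1 1 0 = 0 ∧ g.1.1 0 0 = 1}
      one_mem' := by simp
      mul_mem' := fun {g h} hg hh => by
        show (g.1 * h.1).1 1 0 = 0 ∧ (g.1 * h.1).1 0 0 = 1
        rw [mul_entry, mul_entry, hg.1, hg.2, hh.1, hh.2]
        simp
      inv_mem' := fun {g} hg => by
        show (g.1⁻¹).1 1 0 = 0 ∧ (g.1⁻¹).1 0 0 = 1
        have := det_two g.1
        rw [hg.1, hg.2] at this
        rw [inv_entry]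
        simp [hg.1]
        linear_combination this }
  -- upper elements commute with `U`
  have hU : ∀ g : S, g ∈ U → g.1.1 1 1 = 1 := fun g hg => by
    have := det_two g.1
    rw [hg.1, hg.2] at this
    linear_combination this
  have hup : ∀ g : S, g.1.1 1 0 = 0 → g.1.1 0 0 = g.1.1 1 1 := fun g hg => by
    have h1 := hno g.1 g.2 hg
    have h2 := det_two g.1
    rw [hg, mul_zero, sub_zero] at h2
    have h0 : g.1.1 0 0 ≠ 0 := fun e => by rw [e, zero_mul] at h1; exact zero_ne_one h1
    exact mul_left_cancel₀ h0 (h1.trans h2.symm)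
  have hcomm : ∀ g : S, g.1.1 1 0 = 0 → ∀ u ∈ U, g * u = u * g := fun g hg u hu => by
    have := hU u hu
    have := hup g hg
    refine Subtype.ext (ext_two ?_ ?_ ?_ ?_) <;>
      simp only [Subgroup.coe_mul, mul_entry, hu.1, hu.2, hg, hU u hu, hup g hg] <;> ring
  let aU : S := ⟨a, ha⟩
  have haU : aU ∈ U := by refine ⟨?_, ?_⟩ <;> simp [aU, ha']
  let bU : S := ⟨b, hb⟩
  have hbU : bU ∈ U := by refine ⟨?_, ?_⟩ <;> simp [bU, hb']
  have hnorm : ∀ n : S, n ∈ Subgroup.normalizer (U : Set S) → n.1.1 1 0 = 0 := fun n hn => by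
    have := ((Subgroup.mem_normalizer_iff.mp hn) aU).mp haU
    have h := this.1
    simp only [Subgroup.coe_mul, InvMemClass.coe_inv, mul_entry, inv_entry, aU, ha'] at h
    simp at h
    have h' : n.1.1 1 0 * n.1.1 1 0 = 0 := by linear_combination (norm := ring_nf) -h
    simpa using h'
  have hpow : ∀ (g : S), g ∈ U → ∀ n : ℕ, (g ^ n).1.1 = !![1, (n : K) * g.1.1 0 1; 0, 1] := by
    intro g hg n
    induction n with
    | zero => simp [Matrix.one_fin_two]
    | succ n ih =>
      rw [pow_succ, Subgroup.coe_mul]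
      show (g ^ n).1.1 * g.1.1 = _
      rw [ih]
      ext i j
      fin_cases i <;> fin_cases j <;>
        simp [Matrix.mul_apply, Fin.sum_univ_two, hg.1, hg.2, hU g hg]
      ring
  have hexp : ∀ g : S, g ∈ U → g ^ p = 1 := fun g hg => by
    refine Subtype.ext (Subtype.ext ?_)
    rw [hpow g hg, CharP.cast_eq_zero, zero_mul]
    simp [Matrix.one_fin_two]
  have hUp : IsPGroup p U := fun g => ⟨1, Subtype.ext (by simpa using hexp g.1 g.2)⟩
  -- `U` is a Sylow subgroup
  let P : Sylow p S :=
    { toSubgroup := U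
      isPGroup' := hUp
      is_maximal' := fun {Q} hQ hUQ => by
        by_contra hne
        have hlt : U.subgroupOf Q < ⊤ := lt_top_iff_ne_top.mpr fun h =>
          hne (le_antisymm (Subgroup.subgroupOf_eq_top.mp h) hUQ)
        haveI := hQ.isNilpotent
        obtain ⟨n, hn, hnU⟩ := SetLike.exists_of_lt
          (Group.normalizerCondition_of_isNilpotent (U.subgroupOf Q) hlt)
        have hnN : n.1 ∈ Subgroup.normalizer (U : Set S) := by
          refine Subgroup.mem_normalizer_iff.mpr fun u => ⟨fun hu => ?_, fun hu => ?_⟩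
          · have := ((Subgroup.mem_normalizer_iff.mp hn) ⟨u, hUQ hu⟩).mp
              (Subgroup.mem_subgroupOf.mpr hu)
            simpa [Subgroup.mem_subgroupOf] using this
          · have hu' : u ∈ Q := by
              have := mul_mem (mul_mem (inv_mem n.2) (hUQ hu)) n.2
              simpa [mul_assoc] using this
            have := ((Subgroup.mem_normalizer_iff.mp hn) ⟨u, hu'⟩).mpr
              (Subgroup.mem_subgroupOf.mpr (by simpa using hu))
            simpa [Subgroup.mem_subgroupOf] using this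
        have h10 := hnorm _ hnN
        have h00 : n.1.1.1 0 0 = 1 := by
          obtain ⟨k, hk⟩ := hQ n
          have hsq := hno _ n.1.2 h10
          rcases mul_self_eq_one_iff.mp hsq with h | h
          · exact h
          · have hpowu : ∀ m : ℕ, ((n.1 ^ m).1.1 1 0 = 0 ∧ (n.1 ^ m).1.1 0 0 = (-1) ^ m) := by
              intro m
              induction m with
              | zero => simp
              | succ m ih =>
                rw [pow_succ, Subgroup.coe_mul, mul_entry, mul_entry, ih.1, ih.2, h10, h]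
                constructor <;> ring
            have e := (hpowu (p ^ k)).2
            rw [show n.1 ^ p ^ k = 1 by simpa using congrArg Subtype.val hk] at e
            simp at e
            rcases (Fact.out : p.Prime).eq_two_or_odd' with h2 | h2
            · subst h2
              rw [h, CharTwo.neg_eq]
            · rw [(h2.pow).neg_one_pow] at e
              rw [h, ← e]
        exact hnU (Subgroup.mem_subgroupOf.mpr ⟨h10, h00⟩) }
  have hle : Subgroup.normalizer ((P : Subgroup S) : Set S) ≤
      Subgroup.centralizer ((P : Subgroup S) : Set S) := fun n hn =>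
    Subgroup.mem_centralizer_iff.mpr fun u hu => (hcomm n (hnorm n hn) u hu).symm
  have hcompl := MonoidHom.ker_transferSylow_isComplement' P hle
  set N := (MonoidHom.transferSylow P hle).ker with hN
  letI : CommGroup U :=
    { (inferInstance : Group U) with
      mul_comm := fun g h => Subtype.ext (hcomm g.1 g.2.1 h.1 h.2) }
  letI : MulDistribMulAction U N :=
    MulDistribMulAction.compHom N ((MulAut.conjNormal (H := N)).comp U.subtype)
  have hsmul : ∀ (u : U) (n : N), ((u • n : N) : S) = u.1 * n.1 * u.1⁻¹ := fun u n => rfl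
  have hnc : ¬ IsCyclic U := fun hc' => by
    obtain ⟨g, hg⟩ := hc'.exists_generator
    obtain ⟨i, hi⟩ := hg ⟨aU, haU⟩
    obtain ⟨j, hj⟩ := hg ⟨bU, hbU⟩
    have hgp : g ^ p = 1 := Subtype.ext (by simpa using hexp g.1 g.2)
    have hm : ∀ i : ℤ, ∃ m : ℕ, g ^ i = g ^ m := fun i => by
      refine ⟨(i % (p : ℤ)).toNat, ?_⟩
      rw [← zpow_natCast, Int.toNat_of_nonneg
        (Int.emod_nonneg i (by exact_mod_cast (Fact.out : p.Prime).ne_zero))]
      exact zpow_eq_zpow_emod' i hgp
    obtain ⟨m, hm'⟩ := hm i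
    obtain ⟨k, hk'⟩ := hm j
    have e1 := congrArg (fun x : U => x.1.1.1 0 1) (hm'.symm.trans hi)
    have e2 := congrArg (fun x : U => x.1.1.1 0 1) (hk'.symm.trans hj)
    simp only [SubmonoidClass.coe_pow] at e1 e2
    rw [show ((g.1 : SpecialLinearGroup (Fin 2) K) ^ m) = (g.1 ^ m : S).1 from rfl, hpow g.1 g.2] at e1
    rw [show ((g.1 : SpecialLinearGroup (Fin 2) K) ^ k) = (g.1 ^ k : S).1 from rfl, hpow g.1 g.2] at e2
    simp [aU, ha', bU, hb'] at e1 e2
    have hm0 : (m : K) ≠ 0 := fun e => by rw [e, zero_mul] at e1; exact zero_ne_one e1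
    have hmp : (m : ZMod p) ≠ 0 := fun e => hm0 (by
      rw [← map_natCast (ZMod.castHom dvd_rfl K), e, map_zero])
    have hcast : ∀ z : ZMod p, ((z.val : ℕ) : K) = ZMod.castHom dvd_rfl K z := fun z => by
      rw [← map_natCast (ZMod.castHom dvd_rfl K), ZMod.natCast_zmod_val]
    refine hβ ((k : ZMod p) / m).val ?_
    rw [hcast, map_div₀, map_natCast, map_natCast, div_eq_iff hm0, ← e2]
    linear_combination (-(k : K)) * e1
  have hcop : (Nat.card U).Coprime (Nat.card N) := by
    obtain ⟨k, hk⟩ := IsPGroup.iff_card.mp hUp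
    rw [hk]
    refine Nat.Coprime.pow_left k ((Fact.out : p.Prime).coprime_iff_not_dvd.mpr ?_)
    exact MonoidHom.not_dvd_card_ker_transferSylow P hle
  -- every element of the complement is upper triangular
  have htop := CfsgLib.Coprime.closure_fixed_eq_top (A := U) (G := N) hnc hcop
  let B : Subgroup S :=
    { carrier := {g | g.1.1 1 0 = 0}
      one_mem' := by simp
      mul_mem' := fun {g h} hg hh => by
        show (g.1 * h.1).1 1 0 = 0
        simp only [Set.mem_ofPred_eq] at hg hh
        rw [mul_entry, hg, hh]; simp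
      inv_mem' := fun {g} hg => by
        show (g.1⁻¹).1 1 0 = 0
        simp only [Set.mem_ofPred_eq] at hg
        rw [inv_entry]; simp [hg] }
  have hNB : ∀ n : N, n.1 ∈ B := by
    intro n
    have hn : n ∈ Subgroup.closure {g : N | ∃ u : U, u ≠ 1 ∧ u • g = g} := by
      rw [htop]; trivial
    refine Subgroup.closure_induction (p := fun (x : N) _ => x.1 ∈ B) ?_ (one_mem B)
      (fun x y _ _ hx hy => mul_mem hx hy) (fun x _ hx => inv_mem hx) hn
    rintro g ⟨u, hu1, hu⟩
    have e := congrArg Subtype.val hu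
    rw [hsmul, mul_inv_eq_iff_eq_mul] at e
    have h10 := congrArg (fun x : S => x.1.1 1 1) e
    simp only [Subgroup.coe_mul, mul_entry, u.2.1, hU _ u.2] at h10
    have hu01 : u.1.1.1 0 1 ≠ 0 := fun h0 => hu1 (Subtype.ext (Subtype.ext (ext_two
      (by simp [u.2.2]) (by simp [h0]) (by simp [u.2.1]) (by simp [hU _ u.2]))))
    have : g.1.1.1 1 0 * u.1.1.1 0 1 = 0 := by linear_combination -h10
    exact (mul_eq_zero.mp this).resolve_right hu01
  have hl0 : (⟨l, hl⟩ : S) ∈ B := by
    obtain ⟨n, u, e⟩ : ∃ (n : N) (u : U), n.1 * u.1 = (⟨l, hl⟩ : S) := by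
      obtain ⟨⟨n, u⟩, e⟩ := hcompl.2 (⟨l, hl⟩ : S)
      exact ⟨n, ⟨u.1, u.2⟩, e⟩
    exact e ▸ mul_mem (hNB n) (show u.1 ∈ B from u.2.1)
  exact hc (hl'.symm.trans hl0)

end CfsgLib.Chev.SubfieldMax
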