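import Cfsg.Agent.Chev.Subfield.Frame
import Cfsg.Agent.Chev.Subfield.FrameData
import Cfsg.Agent.Chev.Subfield.SL2
import Cfsg.Agent.Chev.RankOne

/-!
Type `B2`: the parameters of the highest root group in an overgroup of the rational points form a
ring, and rational highest root parameters force rational opposite ones.

The roots are numbered `0, …, 7`: the long ones are `±4` and `±7 = ±(4 + 2·5)`, the short ones
`±5` and `±6`; the negative of `r` is `7 - r`.
-/

set_option autoImplicit false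
set_option linter.unusedSectionVars false

namespace CfsgLib.Chev

open Cfsg.Lie Matrix
open scoped MatrixGroups

namespace SubfieldMax

open Tab

/-- The table of `B2` passes the checks on the highest root. -/
theorem frame_B2 : Frame B2Data.tab := frame_of_chk frameB2

variable {K : Type*} [Field K]

/-- The root elements of `B2`. -/
abbrev xB2 (r : ℕ) (t : K) : GL chevB2.Idx K := good_B2.full.x r t

/-- A product of commuting root elements of roots `7, 5, 3`. -/
def XB2 (i j k : K) : GL chevB2.Idx K := xB2 7 i * xB2 5 j * xB2 3 k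

theorem commB2 {r s : ℕ} (hr : r < chevB2.nroots) (hs : s < chevB2.nroots) (hne : s ≠ r)
    (hng : s ≠ negR chevB2 r) {l : List (ℕ × ℤ × ℕ × ℕ)} (h : B2Data.tab.commT r s = l) (t u : K) :
    xB2 s u * xB2 r t =
      xB2 r t * xB2 s u * ((rhsWord l t u).map fun p => xB2 p.1 p.2).prod := by
  have h1 := good_B2.full.x_comm hr hs hne hng t u
  rw [good_B2.full.cert.commWord_eq hr hs, h] at h1
  exact h1

theorem commB2_nil {r s : ℕ} (hr : r < chevB2.nroots) (hs : s < chevB2.nroots) (hne : s ≠ r)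
    (hng : s ≠ negR chevB2 r) (h : B2Data.tab.commT r s = []) (t u : K) :
    Commute (xB2 s u) (xB2 r t) := by
  have h1 := commB2 hr hs hne hng h t u
  show _ * _ = _ * _
  simpa [rhsWord] using h1

theorem x46 (t u : K) : Commute (xB2 6 u) (xB2 4 t) :=
  commB2_nil (by decide) (by decide) (by decide) (by decide) (by decide +kernel) t u

theorem x35 (t u : K) : Commute (xB2 5 u) (xB2 3 t) :=
  commB2_nil (by decide) (by decide) (by decide) (by decide) (by decide +kernel) t u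

theorem x37 (t u : K) : Commute (xB2 7 u) (xB2 3 t) :=
  commB2_nil (by decide) (by decide) (by decide) (by decide) (by decide +kernel) t u

theorem x57 (t u : K) : Commute (xB2 7 u) (xB2 5 t) :=
  commB2_nil (by decide) (by decide) (by decide) (by decide) (by decide +kernel) t u

theorem x67 (t u : K) : Commute (xB2 7 u) (xB2 6 t) :=
  commB2_nil (by decide) (by decide) (by decide) (by decide) (by decide +kernel) t u

theorem x47 (t u : K) : Commute (xB2 7 u) (xB2 4 t) :=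
  commB2_nil (by decide) (by decide) (by decide) (by decide) (by decide +kernel) t u

theorem x01 (t u : K) : Commute (xB2 1 u) (xB2 0 t) :=
  commB2_nil (by decide) (by decide) (by decide) (by decide) (by decide +kernel) t u

theorem x03 (t u : K) : Commute (xB2 3 u) (xB2 0 t) :=
  commB2_nil (by decide) (by decide) (by decide) (by decide) (by decide +kernel) t u

theorem x13 (t u : K) : Commute (xB2 3 u) (xB2 1 t) :=
  commB2_nil (by decide) (by decide) (by decide) (by decide) (by decide +kernel) t u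

theorem x65 (w v : K) :
    xB2 6 w * xB2 5 v = xB2 5 v * xB2 6 w * xB2 7 (-2 * v * w) := by
  rw [commB2 (r := 5) (s := 6) (by decide) (by decide) (by decide) (by decide)
    (l := [(7, 2, 1, 1)]) (by decide +kernel) v w]
  simp [rhsWord]

theorem x54 (u t : K) :
    xB2 5 u * xB2 4 t = xB2 4 t * xB2 5 u * (xB2 6 (-(t * u)) * xB2 7 (t * u ^ 2)) := by
  rw [commB2 (r := 4) (s := 5) (by decide) (by decide) (by decide) (by decide)
    (l := [(6, 1, 1, 1), (7, -1, 1, 2)]) (by decide +kernel) t u]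
  simp [rhsWord]

theorem x63 (u t : K) :
    xB2 6 u * xB2 3 t = xB2 3 t * xB2 6 u * (xB2 5 (-(t * u)) * xB2 7 (-(t * u ^ 2))) := by
  rw [commB2 (r := 3) (s := 6) (by decide) (by decide) (by decide) (by decide)
    (l := [(5, 1, 1, 1), (7, 1, 1, 2)]) (by decide +kernel) t u]
  simp [rhsWord]

theorem x05 (c t : K) :
    xB2 0 c * xB2 5 t = xB2 5 t * xB2 0 c * (xB2 1 (t * c) * xB2 3 (-(t ^ 2 * c))) := by
  rw [commB2 (r := 5) (s := 0) (by decide) (by decide) (by decide) (by decide)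
    (l := [(1, -1, 1, 1), (3, -1, 2, 1)]) (by decide +kernel) t c]
  simp [rhsWord]

theorem x71 (v t : K) :
    xB2 7 v * xB2 1 t = xB2 1 t * xB2 7 v * (xB2 5 (t * v) * xB2 3 (t ^ 2 * v)) := by
  rw [commB2 (r := 1) (s := 7) (by decide) (by decide) (by decide) (by decide)
    (l := [(5, -1, 1, 1), (3, 1, 2, 1)]) (by decide +kernel) t v]
  simp [rhsWord]

theorem x15 (v t : K) :
    xB2 1 v * xB2 5 t = xB2 5 t * xB2 1 v * xB2 3 (-2 * t * v) := by
  rw [commB2 (r := 5) (s := 1) (by decide) (by decide) (by decide) (by decide)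
    (l := [(3, 2, 1, 1)]) (by decide +kernel) t v]
  simp [rhsWord]

theorem nsB2 {i r r' : ℕ} (hi : i < chevB2.rank) (hr : r < chevB2.nroots)
    (h1 : B2Data.tab.reflT i r = r') {e : ℤ} (h2 : B2Data.tab.sgn i r = e) (v : K) :
    good_B2.full.ns K i * xB2 r v * (good_B2.full.ns K i)⁻¹ = xB2 r' ((e : K) * v) := by
  rw [xB2, good_B2.full.ns_conj hi hr, h1, h2]

theorem xadd (r : ℕ) (t u : K) : xB2 r t * xB2 r u = xB2 r (t + u) := good_B2.full.x_add r t u

theorem xneg (r : ℕ) (t : K) : (xB2 r t)⁻¹ = xB2 r (-t) := good_B2.full.x_inv r t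

theorem xzero (r : ℕ) : xB2 r (0 : K) = 1 := good_B2.full.x_zero r

theorem XB2_mul (i j k i' j' k' : K) :
    XB2 i j k * XB2 i' j' k' = XB2 (i + i') (j + j') (k + k') := by
  simp only [XB2, mul_assoc]
  rw [← mul_assoc (xB2 3 k) (xB2 7 i'), ← (x37 k i').eq, mul_assoc (xB2 7 i'),
    ← mul_assoc (xB2 3 k) (xB2 5 j'), ← (x35 k j').eq, mul_assoc (xB2 5 j'), xadd,
    ← mul_assoc (xB2 5 j) (xB2 7 i'), ← (x57 j i').eq, mul_assoc (xB2 7 i'),
    ← mul_assoc (xB2 5 j) (xB2 5 j'), xadd, ← mul_assoc (xB2 7 i) (xB2 7 i'), xadd]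

theorem XB2_7 (t : K) : xB2 7 t = XB2 t 0 0 := by simp [XB2, xzero]

theorem XB2_5 (t : K) : xB2 5 t = XB2 0 t 0 := by simp [XB2, xzero]

theorem XB2_3 (t : K) : xB2 3 t = XB2 0 0 t := by simp [XB2, xzero]

theorem conj_XB2 (g : GL chevB2.Idx K) (i j k : K) :
    g * XB2 i j k * g⁻¹ =
      g * xB2 7 i * g⁻¹ * (g * xB2 5 j * g⁻¹) * (g * xB2 3 k * g⁻¹) := by
  simp only [XB2]; group

/-- The action of the radical on the three root groups. -/
theorem conj_radical {u : GL chevB2.Idx K} (hu : u ∈ good_B2.US K (qs B2Data.tab)) :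
    ∃ s : K, ∀ i j k, u * XB2 i j k * u⁻¹ = XB2 (i + 2 * s * j + s ^ 2 * k) (j + s * k) k := by
  induction hu using Subgroup.closure_induction with
  | mem u hu =>
    obtain ⟨r, hr, t, rfl⟩ := hu
    have hcases : r = 5 ∨ r = 6 ∨ r = 7 := by
      have h : r < 8 := (frame_B2.closedQ.1 r hr).1
      have h' : 8 ≤ 2 * r := (frame_B2.closedQ.1 r hr).2
      have h4 : r ≠ 4 := fun e => by
        have hf : inQ B2Data.tab 4 = false := by decide +kernel
        subst e
        exact absurd (hr.symm.trans hf) (by decide)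
      omega
    rcases hcases with rfl | rfl | rfl
    · refine ⟨0, fun i j k => ?_⟩
      change xB2 5 t * XB2 i j k * (xB2 5 t)⁻¹ = _
      rw [XB2_5, XB2_mul, mul_inv_eq_iff_eq_mul, XB2_mul]
      congr 1 <;> ring
    · refine ⟨-t, fun i j k => ?_⟩
      change xB2 6 t * XB2 i j k * (xB2 6 t)⁻¹ = _
      rw [conj_XB2, (x67 t i).symm.eq, mul_inv_cancel_right, x65, x63, XB2_7]
      have e5 : xB2 5 j * xB2 6 t * xB2 7 (-2 * j * t) * (xB2 6 t)⁻¹ = XB2 (-2 * j * t) j 0 := by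
        rw [mul_assoc (xB2 5 j), ← (x67 t (-2 * j * t)).eq, ← mul_assoc, mul_inv_cancel_right,
          XB2_5, XB2_7, XB2_mul]
        simp
      have e3 : xB2 3 k * xB2 6 t * (xB2 5 (-(k * t)) * xB2 7 (-(k * t ^ 2))) * (xB2 6 t)⁻¹ =
          XB2 (k * t ^ 2) (-(k * t)) k := by
        rw [mul_assoc (xB2 3 k), ← mul_assoc (xB2 6 t), x65,
          mul_assoc (xB2 5 (-(k * t)) * xB2 6 t), xadd, mul_assoc (xB2 5 (-(k * t))),
          ← (x67 t _).eq, ← mul_assoc (xB2 5 (-(k * t))), ← mul_assoc, mul_inv_cancel_right,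
          XB2_3, XB2_5, XB2_7, XB2_mul, XB2_mul]
        congr 1 <;> ring
      rw [e5, e3, XB2_mul, XB2_mul]
      congr 1 <;> ring
    · refine ⟨0, fun i j k => ?_⟩
      change xB2 7 t * XB2 i j k * (xB2 7 t)⁻¹ = _
      rw [XB2_7, XB2_mul, mul_inv_eq_iff_eq_mul, XB2_mul]
      congr 1 <;> ring
  | one => exact ⟨0, fun i j k => by simp⟩
  | mul a b _ _ ha hb =>
    obtain ⟨s, hs⟩ := ha
    obtain ⟨t, ht⟩ := hb
    refine ⟨s + t, fun i j k => ?_⟩
    rw [show a * b * XB2 i j k * (a * b)⁻¹ = a * (b * XB2 i j k * b⁻¹) * a⁻¹ by group, ht, hs]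
    congr 1 <;> ring
  | inv a _ ha =>
    obtain ⟨s, hs⟩ := ha
    refine ⟨-s, fun i j k => ?_⟩
    have h := hs (i - 2 * s * j + s ^ 2 * k) (j - s * k) k
    rw [show i - 2 * s * j + s ^ 2 * k + 2 * s * (j - s * k) + s ^ 2 * k = i by ring,
      sub_add_cancel] at h
    rw [← h]
    have e : XB2 (i + 2 * -s * j + (-s) ^ 2 * k) (j + -s * k) k =
        XB2 (i - 2 * s * j + s ^ 2 * k) (j - s * k) k := by congr 1 <;> ring
    rw [e]
    group

/-- The action of the opposite short groups on the three root groups. -/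
theorem conj_short {v : GL chevB2.Idx K}
    (hv : v ∈ good_B2.US K ({1, 3, 5} : Set ℕ)) :
    ∃ μ : K, ∀ i j k,
      v * XB2 i j k * v⁻¹ = XB2 i (j - μ * i) (k + μ ^ 2 * i - 2 * μ * j) := by
  induction hv using Subgroup.closure_induction with
  | mem v hv =>
    obtain ⟨r, hr, t, rfl⟩ := hv
    simp only [Set.mem_insert_iff, Set.mem_singleton_iff] at hr
    rcases hr with rfl | rfl | rfl
    · refine ⟨t, fun i j k => ?_⟩
      change xB2 1 t * XB2 i j k * (xB2 1 t)⁻¹ = _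
      have e7 : xB2 1 t * xB2 7 i * (xB2 1 t)⁻¹ = XB2 i (-t * i) (t ^ 2 * i) := by
        have h := x71 i (-t)
        rw [← xneg, mul_assoc _ (xB2 7 i)] at h
        rw [mul_assoc, h, mul_inv_cancel_left, XB2_7, XB2_5, XB2_3, XB2_mul, XB2_mul]
        congr 1 <;> ring
      have e5 : xB2 1 t * xB2 5 j * (xB2 1 t)⁻¹ = XB2 0 j (-2 * t * j) := by
        rw [x15, mul_assoc (xB2 5 j), ← (x13 t _).eq, ← mul_assoc, mul_inv_cancel_right,
          XB2_5, XB2_3, XB2_mul]
        congr 1 <;> ring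
      rw [conj_XB2, e7, e5, ← (x13 t k).eq, mul_inv_cancel_right, XB2_3, XB2_mul, XB2_mul]
      congr 1 <;> ring
    · refine ⟨0, fun i j k => ?_⟩
      change xB2 3 t * XB2 i j k * (xB2 3 t)⁻¹ = _
      rw [XB2_3, XB2_mul, mul_inv_eq_iff_eq_mul, XB2_mul]
      congr 1 <;> ring
    · refine ⟨0, fun i j k => ?_⟩
      change xB2 5 t * XB2 i j k * (xB2 5 t)⁻¹ = _
      rw [XB2_5, XB2_mul, mul_inv_eq_iff_eq_mul, XB2_mul]
      congr 1 <;> ring
  | one => exact ⟨0, fun i j k => by simp⟩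
  | mul a b _ _ ha hb =>
    obtain ⟨s, hs⟩ := ha
    obtain ⟨t, ht⟩ := hb
    refine ⟨s + t, fun i j k => ?_⟩
    rw [show a * b * XB2 i j k * (a * b)⁻¹ = a * (b * XB2 i j k * b⁻¹) * a⁻¹ by group, ht, hs]
    congr 1 <;> ring
  | inv a _ ha =>
    obtain ⟨s, hs⟩ := ha
    refine ⟨-s, fun i j k => ?_⟩
    have h := hs i (j + s * i) (k + s ^ 2 * i + 2 * s * j)
    rw [add_sub_cancel_right, show k + s ^ 2 * i + 2 * s * j + s ^ 2 * i - 2 * s * (j + s * i) = k
      by ring] at h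
    rw [← h]
    have e : XB2 i (j - -s * i) (k + (-s) ^ 2 * i - 2 * -s * j) =
        XB2 i (j + s * i) (k + s ^ 2 * i + 2 * s * j) := by congr 1 <;> ring
    rw [e]
    group

section

variable (σ : K →+* K) (P : Subgroup (GL chevB2.Idx K)) (hP : rat good_B2 σ ≤ P)
include hP

theorem x_mem (r : ℕ) {t : K} (ht : σ t = t) : xB2 r t ∈ P := hP (x_mem_rat good_B2 σ r ht)

theorem ns_mem (i : ℕ) : good_B2.full.ns K i ∈ P := hP (ns_mem_rat good_B2 σ i)

theorem conj_a {r r' : ℕ} {e : ℤ} (hr : r < chevB2.nroots) (h1 : B2Data.tab.reflT 0 r = r')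
    (h2 : B2Data.tab.sgn 0 r = e) {v : K} (h : xB2 r v ∈ P) : xB2 r' ((e : K) * v) ∈ P := by
  rw [← nsB2 (by decide) hr h1 h2]
  exact mul_mem (mul_mem (ns_mem σ P hP 0) h) (inv_mem (ns_mem σ P hP 0))

/-- From a product over the roots `6, 7`. -/
theorem six {v l : K} (h : xB2 6 v * xB2 7 l ∈ P) :
    xB2 5 (-v) * xB2 7 l ∈ P ∧ xB2 7 (l + v ^ 2) ∈ P := by
  have hn := ns_mem (K := K) σ P hP 1
  have h1 : xB2 5 (-v) * xB2 7 l ∈ P := by
    have e : good_B2.full.ns K 1 * (xB2 6 v * xB2 7 l) * (good_B2.full.ns K 1)⁻¹ =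
        xB2 5 (-v) * xB2 7 l := by
      rw [show good_B2.full.ns K 1 * (xB2 6 v * xB2 7 l) * (good_B2.full.ns K 1)⁻¹ =
        (good_B2.full.ns K 1 * xB2 6 v * (good_B2.full.ns K 1)⁻¹) *
          (good_B2.full.ns K 1 * xB2 7 l * (good_B2.full.ns K 1)⁻¹) by group,
        nsB2 (r' := 5) (by decide) (by decide) (by decide +kernel) (e := -1) (by decide +kernel),
        nsB2 (r' := 7) (by decide) (by decide) (by decide +kernel) (e := 1) (by decide +kernel)]
      simp
    exact e ▸ mul_mem (mul_mem hn h) (inv_mem hn)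
  refine ⟨h1, ?_⟩
  have h3 : xB2 3 (1 : K) ∈ P := x_mem σ P hP 3 (map_one σ)
  have e : xB2 6 v * xB2 7 l * xB2 3 (1 : K) =
      xB2 3 (1 : K) * (xB2 6 v * xB2 7 l) * (xB2 5 (-v) * xB2 7 (-v ^ 2)) := by
    rw [mul_assoc (xB2 6 v), (x37 (1 : K) l).eq, ← mul_assoc (xB2 6 v), x63, one_mul, one_mul]
    have c1 : Commute (xB2 7 l) (xB2 5 (-v) * xB2 7 (-v ^ 2)) :=
      (x57 _ _).mul_right (by show _ * _ = _ * _; rw [xadd, xadd, add_comm])
    simp only [mul_assoc]
    rw [c1.eq]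
    simp only [mul_assoc]
  have h2 : xB2 5 (-v) * xB2 7 (-v ^ 2) ∈ P := by
    have := mul_mem h h3
    rw [e] at this
    exact (mul_mem_cancel_left (mul_mem h3 h)).mp this
  have := mul_mem (inv_mem h2) h1
  rw [_root_.mul_inv_rev, mul_assoc, inv_mul_cancel_left, xneg, xadd, neg_neg, add_comm] at this
  exact this

theorem x4_mem {t : K} (h : xB2 7 t ∈ P) : xB2 4 t ∈ P := by
  have := conj_a σ P hP (r := 7) (r' := 4) (e := -1) (by decide) (by decide +kernel) (by decide +kernel)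
    (inv_mem h |> fun h' => by rwa [xneg] at h')
  simpa using this

theorem x6_mem {t : K} (h : xB2 7 t ∈ P) : xB2 6 t ∈ P := by
  have h4 := x4_mem σ P hP h
  have h5 : xB2 5 (1 : K) ∈ P := x_mem σ P hP 5 (map_one σ)
  have e := x54 (1 : K) t
  rw [mul_one, one_pow, mul_one] at e
  have h6 := mul_mem h5 h4
  rw [e] at h6
  have h7 := (mul_mem_cancel_right h).mp ((mul_mem_cancel_left (mul_mem h4 h5)).mp h6)
  have := inv_mem h7
  rwa [xneg, neg_neg] at this

theorem x5_mem {t : K} (h : xB2 7 t ∈ P) : xB2 5 t ∈ P := by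
  have := inv_mem ((six σ P hP (v := t) (l := 0) (by rw [xzero, mul_one]; exact x6_mem σ P hP h)).1)
  rwa [xzero, mul_one, xneg, neg_neg] at this

/-- The parameters of the highest root group in an overgroup are closed under multiplication. -/
theorem b2_ring [Finite K] (p : ℕ) [Fact p.Prime] [CharP K p] {t u : K} (ht : xB2 7 t ∈ P)
    (hu : xB2 7 u ∈ P) : xB2 7 (t * u) ∈ P := by
  let A : AddSubgroup K :=
    { carrier := {x | xB2 7 x ∈ P}
      add_mem' := fun {a b} ha hb => by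
        show xB2 7 (a + b) ∈ P
        rw [← xadd]; exact mul_mem ha hb
      zero_mem' := by show xB2 7 (0 : K) ∈ P; rw [xzero]; exact one_mem P
      neg_mem' := fun {a} ha => by
        show xB2 7 (-a) ∈ P
        rw [← xneg]; exact inv_mem ha }
  have h1A : (1 : K) ∈ A := x_mem σ P hP 7 (map_one σ)
  by_cases h2 : (2 : K) = 0
  swap
  · have h65 : xB2 7 (-2 * t * u) ∈ P := by
      have h5 := x5_mem σ P hP ht
      have h6 := x6_mem σ P hP hu
      have := mul_mem h6 h5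
      rw [x65] at this
      exact (mul_mem_cancel_left (mul_mem h5 h6)).mp this
    obtain ⟨k, hk⟩ : ∃ k : ℕ, (k : K) * 2 = 1 := by
      refine ⟨((2 : ZMod p)⁻¹).val, ?_⟩
      have h2p : (2 : ZMod p) ≠ 0 := fun e => h2 (by
        rw [← map_ofNat (ZMod.castHom dvd_rfl K), e, map_zero])
      rw [← map_natCast (ZMod.castHom dvd_rfl K), ZMod.natCast_zmod_val,
        ← map_ofNat (ZMod.castHom dvd_rfl K), ← map_mul, inv_mul_cancel₀ h2p, map_one]
    have h' : -((k : K) * (-2 * t * u)) ∈ A := neg_mem (by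
      rw [← nsmul_eq_mul]; exact nsmul_mem (show -2 * t * u ∈ A from h65) k)
    rw [show -((k : K) * (-2 * t * u)) = t * u by linear_combination (t * u) * hk] at h'
    exact h'
  -- characteristic two
  have hneg : ∀ x : K, -x = x := fun x => by linear_combination (-x) * h2
  have hsqA : ∀ x ∈ A, x ^ 2 ∈ A := fun x hx => by
    have h5 := x5_mem σ P hP hx
    have h4 : xB2 4 (1 : K) ∈ P := x_mem σ P hP 4 (map_one σ)
    have h6 := mul_mem h5 h4
    rw [x54] at h6
    have := (six σ P hP ((mul_mem_cancel_left (mul_mem h4 h5)).mp h6)).1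
    have := (mul_mem_cancel_left (show xB2 5 (-(-(1 * x))) ∈ P by
      rw [neg_neg, one_mul]; exact h5)).mp this
    rwa [one_mul] at this
  have hsurj : ∀ x ∈ A, ∃ y ∈ A, y ^ 2 = x := by
    let f : A → A := fun x => ⟨(x : K) ^ 2, hsqA x x.2⟩
    have hf : Function.Surjective f := Finite.injective_iff_surjective.mp fun x y e => by
      have e' : (x : K) ^ 2 = (y : K) ^ 2 := congrArg Subtype.val e
      have : ((x : K) - y) ^ 2 = 0 := by linear_combination e' + ((y : K) ^ 2 - x * y) * h2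
      exact Subtype.ext (sub_eq_zero.mp (pow_eq_zero_iff two_ne_zero |>.mp this))
    intro x hx
    obtain ⟨y, hy⟩ := hf ⟨x, hx⟩
    exact ⟨y, y.2, congrArg Subtype.val hy⟩
  let R : Subring K :=
    { carrier := {x | ∀ y ∈ A, x * y ∈ A}
      one_mem' := fun y hy => by rwa [one_mul]
      mul_mem' := fun {a b} ha hb y hy => by rw [mul_assoc]; exact ha _ (hb y hy)
      zero_mem' := fun y _ => by rw [zero_mul]; exact zero_mem A
      add_mem' := fun {a b} ha hb y hy => by rw [add_mul]; exact add_mem (ha y hy) (hb y hy)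
      neg_mem' := fun {a} ha y hy => by rw [neg_mul]; exact neg_mem (ha y hy) }
  have hRA : ∀ x ∈ R, x ∈ A := fun x hx => by simpa using hx 1 h1A
  have hR : ∀ x ∈ A, x ^ 2 + x ∈ R := by
    intro x hx y hy
    obtain ⟨w, hw, rfl⟩ := hsurj y hy
    have h5 := x5_mem σ P hP hw
    have h4 := x4_mem σ P hP hx
    have h6 := mul_mem h5 h4
    rw [x54] at h6
    have := (six σ P hP ((mul_mem_cancel_left (mul_mem h4 h5)).mp h6)).2
    rwa [show x * w ^ 2 + (-(x * w)) ^ 2 = (x ^ 2 + x) * w ^ 2 by ring] at this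
  suffices h : ∀ x ∈ A, x ∈ R from h t ht u hu
  intro x hx
  by_contra hxR
  have hRinv : ∀ r ∈ R, r ≠ 0 → r⁻¹ ∈ R := by
    intro r hr hr0
    obtain ⟨n, hn, hn'⟩ : ∃ n, 0 < n ∧ (Units.mk0 r hr0) ^ n = 1 :=
      ⟨_, orderOf_pos _, pow_orderOf_eq_one _⟩
    have e : r ^ n = 1 := by simpa [Units.ext_iff] using hn'
    rw [show r⁻¹ = r ^ (n - 1) by
      refine inv_eq_of_mul_eq_one_right ?_
      rw [← pow_succ', Nat.sub_add_cancel hn, e]]
    exact pow_mem hr _
  have hR2 : ∀ r ∈ R, r = 0 ∨ r = 1 := by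
    classical
    intro r hr
    haveI := Fintype.ofFinite K
    let A' : Finset K := Finset.univ.filter (· ∈ A)
    let R' : Finset K := Finset.univ.filter (· ∈ R)
    have h1 : (R' ×ˢ R').card ≤ A'.card := by
      refine Finset.card_le_card_of_injOn (fun z => z.1 + z.2 * x) (fun z hz => ?_) ?_
      · simp only [Finset.coe_product, Set.mem_prod, Finset.mem_coe, R', Finset.mem_filter,
          Finset.mem_univ, true_and] at hz
        simp only [A', Finset.coe_filter, Finset.mem_univ, true_and, Set.mem_setOf_eq]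
        exact add_mem (hRA _ hz.1) (hz.2 x hx)
      · intro z hz w hw e
        simp only [Finset.coe_product, Set.mem_prod, Finset.mem_coe, R', Finset.mem_filter,
          Finset.mem_univ, true_and] at hz hw
        simp only at e
        have e2 : z.2 = w.2 := by
          by_contra hne
          refine hxR ?_
          have : x = (w.1 - z.1) * (z.2 - w.2)⁻¹ :=
            (eq_mul_inv_iff_mul_eq₀ (sub_ne_zero.mpr hne)).mpr (by linear_combination e)
          rw [this]
          exact mul_mem (sub_mem hw.1 hz.1)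
            (hRinv _ (sub_mem hz.2 hw.2) (sub_ne_zero.mpr hne))
        exact Prod.ext (by rw [e2] at e; exact add_right_cancel e) e2
    have h2' : A'.card ≤ 2 * R'.card := by
      refine Finset.card_le_mul_card_image_of_maps_to (f := fun y => y ^ 2 + y)
        (fun y hy => ?_) 2 fun b _ => ?_
      · simp only [A', R', Finset.mem_filter, Finset.mem_univ, true_and] at hy ⊢
        exact hR y hy
      · by_cases hne : (A'.filter fun y => y ^ 2 + y = b) = ∅
        · rw [hne]; simp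
        obtain ⟨y₀, hy₀⟩ := Finset.nonempty_iff_ne_empty.mpr hne
        refine le_trans (Finset.card_le_card (t := {y₀, y₀ + 1}) fun y hy => ?_)
          Finset.card_le_two
        simp only [Finset.mem_filter] at hy hy₀
        have : (y - y₀) * (y - (y₀ + 1)) = 0 := by
          linear_combination hy.2 - hy₀.2 + (y₀ ^ 2 + y₀ - y - y * y₀) * h2
        rcases mul_eq_zero.mp this with e | e <;> simp [sub_eq_zero.mp e]
    rw [Finset.card_product] at h1
    have h3 : R'.card ≤ 2 := by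
      rcases Nat.eq_zero_or_pos R'.card with e | e
      · omega
      · exact Nat.le_of_mul_le_mul_right (h1.trans h2') e
    by_contra hr01
    simp only [not_or] at hr01
    have h4 : ({0, 1, r} : Finset K) ⊆ R' := by
      intro y hy
      simp only [Finset.mem_insert, Finset.mem_singleton] at hy
      simp only [R', Finset.mem_filter, Finset.mem_univ, true_and]
      rcases hy with rfl | rfl | rfl
      exacts [zero_mem R, one_mem R, hr]
    have h5 := Finset.card_le_card h4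
    rw [Finset.card_eq_three.mpr ⟨0, 1, r, zero_ne_one, Ne.symm hr01.1, Ne.symm hr01.2, rfl⟩] at h5
    omega
  -- the remaining case
  refine hxR fun y hy => ?_
  rcases hR2 _ (hR x hx) with hr | hr
  · have : x * (x + 1) = 0 := by linear_combination hr
    rcases mul_eq_zero.mp this with e | e
    · rw [e, zero_mul]; exact zero_mem A
    · rw [eq_neg_of_add_eq_zero_left e, neg_mul, one_mul]; exact neg_mem hy
  · rcases hR2 _ (hR y hy) with hs | hs
    · have : y * (y + 1) = 0 := by linear_combination hs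
      rcases mul_eq_zero.mp this with e | e
      · rw [e, mul_zero]; exact zero_mem A
      · rw [eq_neg_of_add_eq_zero_left e, mul_neg, mul_one]; exact neg_mem hx
    · have : (y - x) * (y - (x + 1)) = 0 := by
        linear_combination hs - hr + (x ^ 2 + x - y - y * x) * h2
      rcases mul_eq_zero.mp this with e | e <;> rw [sub_eq_zero.mp e]
      · rw [← pow_two]; exact hsqA x hx
      · rw [show x * (x + 1) = 1 by linear_combination hr]; exact h1A

variable (hA : ∀ t, xB2 7 t ∈ P → σ t = t)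
include hA

/-- Rational coordinates on the roots `5, 7`. -/
theorem qrat {j l : K} (h : xB2 5 j * xB2 7 l ∈ P) : σ j = j ∧ σ l = l := by
  suffices hj : σ j = j from
    ⟨hj, hA l ((mul_mem_cancel_left (x_mem σ P hP 5 hj)).mp h)⟩
  by_cases h2 : (2 : K) = 0
  swap
  · have h6 : xB2 6 (1 : K) ∈ P := x_mem σ P hP 6 (map_one σ)
    have e : xB2 6 (1 : K) * (xB2 5 j * xB2 7 l) =
        xB2 5 j * xB2 7 l * xB2 6 1 * xB2 7 (-2 * j) := by
      rw [← mul_assoc, x65, mul_one, mul_assoc _ (xB2 7 (-2 * j)), xadd, add_comm, ← xadd,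
        ← mul_assoc, mul_assoc (xB2 5 j), ← (x67 1 l).eq, ← mul_assoc]
    have h7 := mul_mem h6 h
    rw [e] at h7
    have := hA _ ((mul_mem_cancel_left (mul_mem h h6)).mp h7)
    rw [map_mul, map_neg, map_ofNat] at this
    exact mul_left_cancel₀ (neg_ne_zero.mpr h2) this
  -- characteristic two
  have hneg : ∀ x : K, -x = x := fun x => by linear_combination (-x) * h2
  have hsq : ∀ x : K, σ (x ^ 2) = x ^ 2 → σ x = x := fun x hx => by
    rw [map_pow] at hx
    have : (σ x - x) ^ 2 = 0 := by linear_combination hx + (x ^ 2 - σ x * x) * h2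
    exact sub_eq_zero.mp (pow_eq_zero_iff two_ne_zero |>.mp this)
  have h4 : xB2 4 (1 : K) ∈ P := x_mem σ P hP 4 (map_one σ)
  have z1 : xB2 6 j * xB2 7 (j ^ 2) ∈ P := by
    have e : xB2 5 j * xB2 7 l * xB2 4 (1 : K) =
        xB2 4 (1 : K) * (xB2 5 j * xB2 7 l) * (xB2 6 j * xB2 7 (j ^ 2)) := by
      rw [mul_assoc (xB2 5 j), (x47 (1 : K) l).eq, ← mul_assoc (xB2 5 j), x54, one_mul, one_mul,
        hneg]
      have c1 : Commute (xB2 7 l) (xB2 6 j * xB2 7 (j ^ 2)) :=
        (x67 _ _).mul_right (by show _ * _ = _ * _; rw [xadd, xadd, add_comm])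
      simp only [mul_assoc]
      rw [c1.eq]
      simp only [mul_assoc]
    have := mul_mem h h4
    rw [e] at this
    exact (mul_mem_cancel_left (mul_mem h4 h)).mp this
  have z2 : xB2 5 j * xB2 7 (j ^ 2) ∈ P := by
    have := (six σ P hP z1).1
    rwa [hneg] at this
  have y1 : xB2 6 j * xB2 4 (j ^ 2) ∈ P := by
    have hn := ns_mem (K := K) σ P hP 0
    have e : good_B2.full.ns K 0 * (xB2 6 j * xB2 7 (j ^ 2)) * (good_B2.full.ns K 0)⁻¹ =
        xB2 6 j * xB2 4 (j ^ 2) := by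
      rw [show good_B2.full.ns K 0 * (xB2 6 j * xB2 7 (j ^ 2)) * (good_B2.full.ns K 0)⁻¹ =
        (good_B2.full.ns K 0 * xB2 6 j * (good_B2.full.ns K 0)⁻¹) *
          (good_B2.full.ns K 0 * xB2 7 (j ^ 2) * (good_B2.full.ns K 0)⁻¹) by group,
        nsB2 (r' := 6) (by decide) (by decide) (by decide +kernel) (e := -1) (by decide +kernel),
        nsB2 (r' := 4) (by decide) (by decide) (by decide +kernel) (e := -1) (by decide +kernel)]
      simp [hneg]
    exact e ▸ mul_mem (mul_mem hn z1) (inv_mem hn)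
  have hcomm : ∀ v m : K, xB2 5 v * xB2 7 m ∈ P →
      xB2 6 (j ^ 2 * v) * xB2 7 (j ^ 2 * v ^ 2) ∈ P := by
    intro v m hv
    have e : xB2 5 v * xB2 7 m * (xB2 6 j * xB2 4 (j ^ 2)) =
        xB2 6 j * xB2 4 (j ^ 2) * (xB2 5 v * xB2 7 m) *
          (xB2 6 (j ^ 2 * v) * xB2 7 (j ^ 2 * v ^ 2)) := by
      have c0 : Commute (xB2 7 m) (xB2 6 j * xB2 4 (j ^ 2)) := (x67 _ _).mul_right (x47 _ _)
      have c1 : Commute (xB2 7 m) (xB2 6 (j ^ 2 * v) * xB2 7 (j ^ 2 * v ^ 2)) :=
        (x67 _ _).mul_right (by show _ * _ = _ * _; rw [xadd, xadd, add_comm])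
      have c56 : Commute (xB2 5 v) (xB2 6 j) := by
        show _ = _
        rw [x65, h2, neg_zero, zero_mul, zero_mul, xzero, mul_one]
      rw [mul_assoc (xB2 5 v), c0.eq, ← mul_assoc (xB2 5 v), ← mul_assoc (xB2 5 v), c56.eq,
        mul_assoc (xB2 6 j), x54, hneg]
      simp only [mul_assoc]
      rw [c1.eq]
      simp only [mul_assoc]
    have := mul_mem hv y1
    rw [e] at this
    exact (mul_mem_cancel_left (mul_mem y1 hv)).mp this
  have f1 : σ (j + j ^ 2) = j + j ^ 2 := hsq _ (by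
    have h1 := hA _ (six σ P hP (hcomm 1 0 (by
      rw [xzero, mul_one]; exact x_mem σ P hP 5 (map_one σ)))).2
    rwa [show (j + j ^ 2) ^ 2 = j ^ 2 * 1 ^ 2 + (j ^ 2 * 1) ^ 2 by
      linear_combination j ^ 3 * h2])
  have f2 : σ (j ^ 2 + j ^ 3) = j ^ 2 + j ^ 3 := hsq _ (by
    have h1 := hA _ (six σ P hP (hcomm j _ z2)).2
    rwa [show (j ^ 2 + j ^ 3) ^ 2 = j ^ 2 * j ^ 2 + (j ^ 2 * j) ^ 2 by
      linear_combination j ^ 5 * h2])
  by_cases hc : j + j ^ 2 = 0
  · rcases mul_eq_zero.mp (show j * (1 + j) = 0 by linear_combination hc) with e | e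
    · rw [e, map_zero]
    · rw [eq_neg_of_add_eq_zero_right e, map_neg, map_one]
  · have : (σ j - j) * (j + j ^ 2) = 0 := by
      have := f2
      rw [show j ^ 2 + j ^ 3 = j * (j + j ^ 2) by ring, map_mul, f1] at this
      linear_combination this
    exact sub_eq_zero.mp ((mul_eq_zero.mp this).resolve_right hc)

/-- Rational coordinates on the roots `3, 5, 7`. -/
theorem xrat {i j k : K} (h : XB2 i j k ∈ P) : σ i = i ∧ σ j = j ∧ σ k = k := by
  obtain ⟨s, hs⟩ : ∃ s, ∀ i j k : K, xB2 6 (1 : K) * XB2 i j k * (xB2 6 (1 : K))⁻¹ =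
      XB2 (i + 2 * s * j + s ^ 2 * k) (j + s * k) k ∧ s ^ 2 = 1 := by
    obtain ⟨s, hs⟩ := conj_radical (K := K) (good_B2.x_mem_US
      (show 6 ∈ qs B2Data.tab from (by decide +kernel : inQ B2Data.tab 6 = true)) 1)
    refine ⟨s, fun i j k => ⟨hs i j k, ?_⟩⟩
    have h1 : xB2 6 (1 : K) * xB2 3 1 * (xB2 6 (1 : K))⁻¹ = XB2 1 (-1) 1 := by
      rw [x63, mul_assoc (xB2 3 (1 : K)), ← mul_assoc (xB2 6 (1 : K)), x65,
        mul_assoc (xB2 5 (-((1 : K) * 1)) * xB2 6 (1 : K)), xadd,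
        mul_assoc (xB2 5 (-((1 : K) * 1))), ← (x67 1 _).eq, ← mul_assoc (xB2 5 (-((1 : K) * 1))),
        ← mul_assoc, mul_inv_cancel_right, XB2_3, XB2_5, XB2_7, XB2_mul, XB2_mul]
      congr 1 <;> ring
    have h2 := hs 0 0 1
    rw [← XB2_3] at h2
    change xB2 6 (1 : K) * xB2 3 1 * (xB2 6 (1 : K))⁻¹ = _ at h2
    rw [h1] at h2
    have h2' : xB2 7 (1 - s ^ 2) = XB2 0 (s + 1) 0 := by
      have h3 := congrArg (fun z => z * XB2 (-(s ^ 2)) 1 (-1 : K)) h2
      simp only [XB2_mul] at h3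
      rw [XB2_7]
      convert h3 using 2 <;> ring
    by_contra hne
    rw [← XB2_5] at h2'
    exact absurd (good_B2.x_inj_root (F := K) (r := 7) (s := 5) (by decide) (by decide)
      (sub_ne_zero.mpr (Ne.symm hne)) h2') (by decide)
  have h6 : xB2 6 (1 : K) ∈ P := x_mem σ P hP 6 (map_one σ)
  have h1 := mul_mem (mul_mem (mul_mem h6 h) (inv_mem h6)) (inv_mem h)
  rw [(hs i j k).1] at h1
  have hinv : (XB2 i j k)⁻¹ = XB2 (-i) (-j) (-k) := by
    refine inv_eq_of_mul_eq_one_right ?_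
    rw [XB2_mul]
    simp [XB2, xzero]
  rw [hinv, XB2_mul, add_neg_cancel] at h1
  have hk : σ k = k := by
    have h2 := qrat σ P hP hA (j := s * k) (l := 2 * s * j + s ^ 2 * k) (by
      rw [XB2_5, XB2_7, XB2_mul]
      convert h1 using 2 <;> ring)
    have hs2 := (hs i j k).2
    rcases mul_self_eq_one_iff.mp (show s * s = 1 by rw [← pow_two]; exact hs2) with e | e <;>
      subst e
    · simpa using h2.1
    · simpa using h2.1
  have h3 : xB2 5 j * xB2 7 i ∈ P := by
    have h' : xB2 7 i * xB2 5 j ∈ P := (mul_mem_cancel_right (x_mem σ P hP 3 hk)).mp h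
    rwa [(x57 j i).eq] at h'
  exact ⟨(qrat σ P hP hA h3).2, (qrat σ P hP hA h3).1, hk⟩

set_option maxHeartbeats 1000000 in
/-- Rational highest root parameters force rational opposite parameters. -/
theorem b2_rational [Finite K] (p : ℕ) [Fact p.Prime] [CharP K p] {u : GL chevB2.Idx K}
    (hu : u ∈ good_B2.US K (qs B2Data.tab)) {c : K} (hc : u * xB2 0 c * u⁻¹ ∈ P) : σ c = c := by
  obtain ⟨s, hs⟩ := conj_radical hu
  have hu7 : ∀ v, u * xB2 7 v * u⁻¹ = xB2 7 v := fun v => by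
    rw [XB2_7, hs]
    congr 1 <;> ring
  have hsq : (2 : K) = 0 → ∀ x : K, σ (x ^ 2) = x ^ 2 → σ x = x := fun h2 x hx => by
    rw [map_pow] at hx
    have : (σ x - x) ^ 2 = 0 := by linear_combination hx + (x ^ 2 - σ x * x) * h2
    exact sub_eq_zero.mp (pow_eq_zero_iff two_ne_zero |>.mp this)
  by_cases hs2 : σ (2 * s) = 2 * s
  · -- the commutator with the short root element
    have hR : u * xB2 5 1 * u⁻¹ ∈ P := by
      rw [XB2_5, hs, show XB2 (0 + 2 * s * 1 + s ^ 2 * 0) (1 + s * 0) 0 =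
        XB2 (2 * s) 1 0 by congr 1 <;> ring]
      simp only [XB2]
      exact mul_mem (mul_mem (x_mem σ P hP 7 hs2) (x_mem σ P hP 5 (map_one σ)))
        (x_mem σ P hP 3 (map_zero σ))
    have h7 : u * xB2 7 1 * u⁻¹ ∈ P := by rw [hu7]; exact x_mem σ P hP 7 (map_one σ)
    set w := xB2 5 (1 : K) * xB2 1 c * xB2 3 (-c) with hw
    have hw' : xB2 0 c * xB2 5 1 * (xB2 0 c)⁻¹ = w := by
      rw [x05, one_mul, one_pow, one_mul, mul_assoc (xB2 5 (1 : K)),
        ← ((x01 c c).mul_left (x03 c (-c))).eq, ← mul_assoc, mul_inv_cancel_right, hw, mul_assoc]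
    have hwm : u * w * u⁻¹ ∈ P := by
      rw [← hw', show u * (xB2 0 c * xB2 5 1 * (xB2 0 c)⁻¹) * u⁻¹ = u * xB2 0 c * u⁻¹ *
        (u * xB2 5 1 * u⁻¹) * (u * xB2 0 c * u⁻¹)⁻¹ by group]
      exact mul_mem (mul_mem hc hR) (inv_mem hc)
    have hC : xB2 7 (1 : K) * w * (xB2 7 (1 : K))⁻¹ * w⁻¹ = XB2 0 c (-c ^ 2) := by
      have e1 : xB2 7 (1 : K) * xB2 1 c * (xB2 7 (1 : K))⁻¹ =
          xB2 1 c * (xB2 5 c * xB2 3 (c ^ 2)) := by
        rw [x71, mul_one, mul_one, mul_assoc (xB2 1 c),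
          (((x57 c (1 : K))).mul_right (x37 (c ^ 2) (1 : K))).eq, ← mul_assoc,
          mul_inv_cancel_right]
      have e2 : xB2 1 c * (xB2 5 c * xB2 3 (c ^ 2)) * (xB2 1 c)⁻¹ = XB2 0 c (-c ^ 2) := by
        rw [← mul_assoc, x15, mul_assoc (xB2 5 c * xB2 1 c), xadd, mul_assoc (xB2 5 c),
          ← (x13 c _).eq, ← mul_assoc, mul_inv_cancel_right, XB2_5, XB2_3, XB2_mul]
        congr 1 <;> ring
      have e3 : xB2 7 (1 : K) * w * (xB2 7 (1 : K))⁻¹ =
          xB2 5 1 * (xB2 7 (1 : K) * xB2 1 c * (xB2 7 (1 : K))⁻¹) * xB2 3 (-c) := by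
        rw [hw, show xB2 7 (1 : K) * (xB2 5 1 * xB2 1 c * xB2 3 (-c)) * (xB2 7 (1 : K))⁻¹ =
          (xB2 7 (1 : K) * xB2 5 1 * (xB2 7 (1 : K))⁻¹) *
            (xB2 7 (1 : K) * xB2 1 c * (xB2 7 (1 : K))⁻¹) *
            (xB2 7 (1 : K) * xB2 3 (-c) * (xB2 7 (1 : K))⁻¹) by group,
          (x57 1 1).eq, mul_inv_cancel_right, (x37 (-c) 1).eq, mul_inv_cancel_right]
      rw [e3, e1, hw, show ∀ a b z d : GL chevB2.Idx K,
          a * (b * z) * d * (a * b * d)⁻¹ = a * (b * z * b⁻¹) * a⁻¹ from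
            fun _ _ _ _ => by group, e2, XB2_5, XB2_mul, mul_inv_eq_iff_eq_mul, XB2_mul]
      congr 1 <;> ring
    have hm : u * XB2 0 c (-c ^ 2) * u⁻¹ ∈ P := by
      rw [← hC, show u * (xB2 7 (1 : K) * w * (xB2 7 (1 : K))⁻¹ * w⁻¹) * u⁻¹ =
        u * xB2 7 1 * u⁻¹ * (u * w * u⁻¹) * (u * xB2 7 1 * u⁻¹)⁻¹ * (u * w * u⁻¹)⁻¹ by group]
      exact mul_mem (mul_mem (mul_mem h7 hwm) (inv_mem h7)) (inv_mem hwm)
    rw [hs] at hm
    obtain ⟨-, hj, hk⟩ := xrat σ P hP hA hm
    have hc2 : σ (c ^ 2) = c ^ 2 := by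
      rw [map_neg] at hk; exact neg_inj.mp hk
    by_cases h2 : (2 : K) = 0
    · exact hsq h2 c hc2
    · have hsσ : σ s = s := by
        rw [map_mul, map_ofNat] at hs2; exact mul_left_cancel₀ h2 hs2
      rw [map_add, map_mul, hsσ, map_neg, hc2] at hj
      exact add_right_cancel hj
  -- the group generated by the short root groups and the long pair
  by_contra hne
  have hc0 : c ≠ 0 := fun e => hne (by rw [e, map_zero])
  obtain ⟨φ, hφr, hφ⟩ := good_B2.sl2_pair (F := K) (r := 7) (by decide)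
  have hneg : chevB2.neg 7 = 0 := by
    rw [good_B2.full.cert.neg_eq (by decide : 7 < chevB2.nroots)]; rfl
  have hup : ∀ (g : SpecialLinearGroup (Fin 2) K) (t : K), g.1 = !![1, t; 0, 1] →
      φ g = xB2 7 t := fun g t hg => good_B2.full.eq_x.mp ((hφ g t).1 hg)
  have hlo : ∀ (g : SpecialLinearGroup (Fin 2) K) (t : K), g.1 = !![1, 0; t, 1] →
      φ g = xB2 0 t := fun g t hg => by
    have := (hφ g t).2 hg
    rw [hneg] at this
    exact good_B2.full.eq_x.mp this
  let V := good_B2.US K ({1, 3, 5} : Set ℕ)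
  have hmemV : ∀ r ∈ ({1, 3, 5} : Set ℕ), ∀ t : K, xB2 r t ∈ V := fun r hr t =>
    good_B2.x_mem_US hr t
  have hnorm : ∀ g, ∀ v ∈ V, φ g * v * (φ g)⁻¹ ∈ V := by
    intro g
    let N : Subgroup (GL chevB2.Idx K) := Subgroup.normalizer (V : Set (GL chevB2.Idx K))
    have hmem : φ g ∈ N := by
      have h7 : ∀ t : K, ∀ r ∈ ({1, 3, 5} : Set ℕ), ∀ w : K,
          xB2 7 t * xB2 r w * (xB2 7 t)⁻¹ ∈ V := by
        intro t r hr w
        rcases hr with rfl | rfl | rfl
        · rw [x71, mul_assoc (xB2 1 w), ((x57 (w * t) t).mul_right (x37 (w ^ 2 * t) t)).eq,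
            ← mul_assoc, mul_inv_cancel_right]
          exact mul_mem (hmemV 1 (by simp) _) (mul_mem (hmemV 5 (by simp) _)
            (hmemV 3 (by simp) _))
        · rw [(x37 w t).eq, mul_inv_cancel_right]; exact hmemV 3 (by simp) _
        · rw [(x57 w t).eq, mul_inv_cancel_right]; exact hmemV 5 (by simp) _
      have h0 : ∀ t : K, ∀ r ∈ ({1, 3, 5} : Set ℕ), ∀ w : K,
          xB2 0 t * xB2 r w * (xB2 0 t)⁻¹ ∈ V := by
        intro t r hr w
        rcases hr with rfl | rfl | rfl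
        · rw [← (x01 t w).eq, mul_inv_cancel_right]; exact hmemV 1 (by simp) _
        · rw [← (x03 t w).eq, mul_inv_cancel_right]; exact hmemV 3 (by simp) _
        · rw [x05, mul_assoc (xB2 5 w),
            ← ((x01 t (w * t)).mul_left (x03 t (-(w ^ 2 * t)))).eq, ← mul_assoc,
            mul_inv_cancel_right]
          exact mul_mem (hmemV 5 (by simp) _) (mul_mem (hmemV 1 (by simp) _)
            (hmemV 3 (by simp) _))
      have hle : ∀ r, (∀ t : K, ∀ r' ∈ ({1, 3, 5} : Set ℕ), ∀ w : K,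
          xB2 r t * xB2 r' w * (xB2 r t)⁻¹ ∈ V) → chevB2.rootSubgroup K r ≤ N := by
        intro r hr
        rw [ChevalleyDatum.rootSubgroup, Subgroup.closure_le]
        rintro _ ⟨t, ht⟩
        obtain rfl := good_B2.full.eq_x.mp ht
        refine Subgroup.mem_normalizer_iff.mpr fun v => ⟨good_B2.conj_US _
          (fun r' hr' w => hr t r' hr' w), fun hv => ?_⟩
        have := good_B2.conj_US (xB2 r (-t)) (fun r' hr' w => hr (-t) r' hr' w) hv
        have e : xB2 r (-t) * (xB2 r t * v * (xB2 r t)⁻¹) * (xB2 r (-t))⁻¹ = v := by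
          rw [← xneg]; group
        rwa [e] at this
      have : φ g ∈ chevB2.rootSubgroup K 7 ⊔ chevB2.rootSubgroup K (chevB2.neg 7) :=
        hφr ▸ ⟨g, rfl⟩
      rw [hneg] at this
      exact (sup_le (hle 7 h7) (hle 0 h0)) this
    exact fun v hv => (Subgroup.mem_normalizer_iff.mp hmem v).mp hv
  let S : Subgroup (SpecialLinearGroup (Fin 2) K) :=
    { carrier := {g | ∃ v ∈ V, u * (v * φ g) * u⁻¹ ∈ P}
      one_mem' := ⟨1, one_mem V, by simp [one_mem]⟩
      mul_mem' := fun {g g'} ⟨v, hv, h⟩ ⟨v', hv', h'⟩ => by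
        refine ⟨v * (φ g * v' * (φ g)⁻¹), mul_mem hv (hnorm g v' hv'), ?_⟩
        have := mul_mem h h'
        rw [map_mul]
        convert this using 1
        group
      inv_mem' := fun {g} ⟨v, hv, h⟩ => by
        refine ⟨φ g⁻¹ * v⁻¹ * (φ g⁻¹)⁻¹, hnorm g⁻¹ _ (inv_mem hv), ?_⟩
        have := inv_mem h
        convert this using 1
        rw [map_inv]
        group }
  haveI : Finite S := inferInstance
  let X : K → SpecialLinearGroup (Fin 2) K := fun t =>
    ⟨!![1, t; 0, 1], by simp [Matrix.det_fin_two]⟩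
  let Y : K → SpecialLinearGroup (Fin 2) K := fun t =>
    ⟨!![1, 0; t, 1], by simp [Matrix.det_fin_two]⟩
  have hX : ∀ t, φ (X t) = xB2 7 t := fun t => hup _ t rfl
  have hY : ∀ t, φ (Y t) = xB2 0 t := fun t => hlo _ t rfl
  have hn2 : ∀ n : ℕ, (n : K) ≠ -2 * s := fun n e => hs2 (by
    have h1 : σ (-2 * s) = -2 * s := by rw [← e, map_natCast]
    rw [neg_mul, map_neg] at h1
    exact neg_inj.mp h1)
  have hs0 : ∀ t, σ (s * t) = s * t → σ t = t → t ≠ 0 → False := fun t h1 h2 h3 => hs2 (by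
    rw [map_mul, h2] at h1
    rw [map_mul, map_ofNat, mul_right_cancel₀ h3 h1])
  obtain ⟨d, ⟨v, hv, hD⟩, hd0, hd1⟩ := exists_upper p S
    (a := X 1) (b := X (-2 * s))
    ⟨1, one_mem V, by rw [one_mul, hX, hu7]; exact x_mem σ P hP 7 (map_one σ)⟩
    ⟨xB2 5 1, hmemV 5 (by simp) 1, by
      rw [hX, show u * (xB2 5 1 * xB2 7 (-2 * s)) * u⁻¹ =
        u * XB2 (-2 * s) 1 0 * u⁻¹ by rw [XB2_5, XB2_7, XB2_mul]; simp, hs,
        show XB2 (-2 * s + 2 * s * 1 + s ^ 2 * 0) (1 + s * 0) 0 = XB2 0 1 0 by congr 1 <;> ring,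
        ← XB2_5]
      exact x_mem σ P hP 5 (map_one σ)⟩
    rfl rfl hn2 (l := Y c) ⟨1, one_mem V, by rw [one_mul, hY]; exact hc⟩ rfl hc0
  set l := d.1 0 0 with hl
  have hdet : l * d.1 1 1 = 1 := by
    have := det_two d
    rw [hd0, mul_zero, sub_zero] at this
    exact this
  have hl0 : l ≠ 0 := left_ne_zero_of_mul_eq_one hdet
  -- the upper triangular element
  have hφd : φ d = good_B2.full.hr 7 l * xB2 7 (d.1 0 1 / l) := by
    have e : d = X l * Y (-l⁻¹) * X l * (X (-1) * Y (-(-1)⁻¹) * X (-1)) * X (d.1 0 1 / l) := by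
      refine Subtype.ext ?_
      show d.1 = !![1, l; 0, 1] * !![1, 0; -l⁻¹, 1] * !![1, l; 0, 1] *
        (!![1, -1; 0, 1] * !![1, 0; -(-1 : K)⁻¹, 1] * !![1, -1; 0, 1]) *
        !![1, d.1 0 1 / l; 0, 1]
      have h11 : d.1 1 1 = l⁻¹ := eq_inv_of_mul_eq_one_right hdet
      ext x y
      fin_cases x <;> fin_cases y <;>
        simp [Matrix.mul_apply, Fin.sum_univ_two, ← hl, hd0, h11, hl0] <;> field_simp
    conv_lhs => rw [e]
    simp only [map_mul, hX, hY]
    rfl
  obtain ⟨μ, hμ⟩ := conj_short hv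
  have hpair : B2Data.tab.pairT 7 7 = 2 ∧ B2Data.tab.pairT 7 5 = 1 ∧ B2Data.tab.pairT 7 3 = 0 := by
    decide +kernel
  have hdX : ∀ i j k, φ d * XB2 i j k * (φ d)⁻¹ = XB2 (l ^ 2 * i) (l * j) k := by
    intro i j k
    have h1 : xB2 7 (d.1 0 1 / l) * XB2 i j k * (xB2 7 (d.1 0 1 / l))⁻¹ = XB2 i j k := by
      rw [XB2_7, XB2_mul, mul_inv_eq_iff_eq_mul, XB2_mul]
      congr 1 <;> ring
    have hr_conj : ∀ {r : ℕ}, r < chevB2.nroots → ∀ w : K,
        good_B2.full.hr 7 l * xB2 r w * (good_B2.full.hr 7 l)⁻¹ =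
          xB2 r (l ^ B2Data.tab.pairT 7 r * w) := by
      intro r hr w
      rw [good_B2.full.hr_eq_hT (by decide : 7 < chevB2.nroots) hl0, good_B2.full.hT_conj hr]
      have : B2Data.tab.chi (F := K) r (fun i => Units.mk0 l hl0 ^ B2Data.tab.cor 7 i) =
          Units.mk0 l hl0 ^ B2Data.tab.pairT 7 r := by
        rw [pairT_eq_sum, zpow_sum_eq_prod]
        simp only [chi, MonoidHom.coe_mk, OneHom.coe_mk, ← _root_.zpow_mul]
      rw [this, Units.val_zpow_eq_zpow_val, Units.val_mk0]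
    rw [hφd, show good_B2.full.hr 7 l * xB2 7 (d.1 0 1 / l) * XB2 i j k *
      (good_B2.full.hr 7 l * xB2 7 (d.1 0 1 / l))⁻¹ = good_B2.full.hr 7 l *
        (xB2 7 (d.1 0 1 / l) * XB2 i j k * (xB2 7 (d.1 0 1 / l))⁻¹) *
        (good_B2.full.hr 7 l)⁻¹ by group, h1, conj_XB2, hr_conj (by decide),
      hr_conj (by decide), hr_conj (by decide), hpair.1, hpair.2.1, hpair.2.2, zpow_zero,
      one_mul, zpow_one, XB2]
    norm_cast
  set P' := -(l * μ) with hP'
  set R := l + s * P' with hR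
  have himage : ∀ i j k, XB2 i j k ∈ P →
      u * (v * φ d) * u⁻¹ * XB2 i j k * (u * (v * φ d) * u⁻¹)⁻¹ ∈ P := fun i j k h =>
    mul_mem (mul_mem hD h) (inv_mem hD)
  have huinv : ∀ i j k, u⁻¹ * XB2 i j k * u =
      XB2 (i - 2 * s * j + s ^ 2 * k) (j - s * k) k := fun i j k => by
    have h := hs (i - 2 * s * j + s ^ 2 * k) (j - s * k) k
    rw [show i - 2 * s * j + s ^ 2 * k + 2 * s * (j - s * k) + s ^ 2 * k = i by ring,
      sub_add_cancel] at h
    conv_lhs => rw [← h]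
    group
  have himg : ∀ i j k, u * (v * φ d) * u⁻¹ * XB2 i j k * (u * (v * φ d) * u⁻¹)⁻¹ =
      u * (v * (φ d * XB2 (i - 2 * s * j + s ^ 2 * k) (j - s * k) k * (φ d)⁻¹) * v⁻¹) * u⁻¹ :=
    fun i j k => by rw [← huinv]; group
  have h7m : XB2 (1 : K) 0 0 ∈ P := by rw [← XB2_7]; exact x_mem σ P hP 7 (map_one σ)
  have h5m : XB2 (0 : K) 1 0 ∈ P := by rw [← XB2_5]; exact x_mem σ P hP 5 (map_one σ)
  have k7 := himage _ _ _ h7m
  have k5 := himage _ _ _ h5m
  rw [himg, hdX, hμ, hs] at k7 k5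
  obtain ⟨a1, a2, a3⟩ := xrat σ P hP hA k7
  obtain ⟨b1, b2, b3⟩ := xrat σ P hP hA k5
  have h2 : (2 : K) ≠ 0 := fun e => hs2 (by rw [e, zero_mul, map_zero])
  have hσ2 : ∀ x : K, σ (2 * x) = 2 * x → σ x = x := fun x hx => by
    rw [map_mul, map_ofNat] at hx; exact mul_left_cancel₀ h2 hx
  have hcv : ∀ {x y : K}, σ y = y → x = y → σ x = x := fun h e => e ▸ h
  have e1 : σ (R ^ 2) = R ^ 2 := hcv a1 (by simp only [hR, hP']; ring)
  have e2 : σ (P' * R) = P' * R := hcv a2 (by simp only [hR, hP']; ring)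
  have e3 : σ (P' ^ 2) = P' ^ 2 := hcv a3 (by simp only [hR, hP']; ring)
  have e4 : σ (s * (R * (1 - R))) = s * (R * (1 - R)) := hσ2 _ (hcv b1 (by simp only [hR, hP']; ring))
  have e5 : σ (R + s * P' * (1 - 2 * R)) = R + s * P' * (1 - 2 * R) := hcv b2 (by simp only [hR, hP']; ring)
  have e6 : σ (P' * (1 - s * P')) = P' * (1 - s * P') := hσ2 _ (hcv b3 (by simp only [hR, hP']; ring))
  have hl1 : l ≠ 1 := fun e => hd1 (by rw [e, one_mul])
  by_cases hP0 : P' = 0
  · rw [hR, hP0, mul_zero, add_zero, zero_mul, add_zero] at e5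
    rw [hR, hP0, mul_zero, add_zero] at e4
    refine hs0 _ e4 ?_ (mul_ne_zero hl0 (sub_ne_zero.mpr (Ne.symm hl1)))
    rw [map_mul, map_sub, map_one, e5]
  · have hP2 : P' ^ 2 ≠ 0 := pow_ne_zero 2 hP0
    set ρ := P' * R / P' ^ 2 with hρ
    have hσρ : σ ρ = ρ := by rw [hρ, map_div₀, e2, e3]
    have hRρ : R = ρ * P' := by rw [hρ]; field_simp
    set f := P' * (1 - s * P') with hf
    have hl' : σ l = l := by
      have h : l = -(R + s * P' * (1 - 2 * R) - 2 * ρ * f) := by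
        rw [hf]
        have : l = R - s * P' := by rw [hR]; ring
        linear_combination this + (-2 * (s * P' - 1)) * hRρ
      rw [h, map_neg, map_sub, map_mul, map_mul, map_ofNat, e5, hσρ, e6]
    have hl2 : P' * (l + 1) = ρ * P' ^ 2 + f := by
      rw [hf]
      have : l = R - s * P' := by rw [hR]; ring
      linear_combination P' * this + P' * hRρ
    by_cases hlm : l + 1 = 0
    · exact hd1 (by linear_combination (l - 1) * hlm)
    have hσP : σ P' = P' := by
      have h : P' = (ρ * P' ^ 2 + f) / (l + 1) := eq_div_of_mul_eq hlm hl2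
      rw [h, map_div₀, map_add, map_mul, hσρ, e3, e6, map_add, hl', map_one]
    refine hs0 (P' ^ 2) ?_ e3 hP2
    rw [show s * P' ^ 2 = P' - f by rw [hf]; ring, map_sub, hσP, e6]

end

end SubfieldMax

end CfsgLib.Chev
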