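import Cfsg.Agent.Chev.FieldFix
import Cfsg.Agent.Chev.GoodAll

/-!
Checks on the tables used for the subfield subgroups: the highest root, its radical, the orbit of
the highest root and a derivation of all basis vectors from the highest root vector.
-/

set_option autoImplicit false

namespace CfsgLib.Chev

open Cfsg.Lie Matrix
open scoped MatrixGroups

namespace SubfieldMax

/-- Membership in a list of naturals. -/
def memB (k : ℕ) (K : List ℕ) : Bool := K.any (Nat.beq k)

theorem memB_iff {k : ℕ} {K : List ℕ} : memB k K = true ↔ k ∈ K := by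
  simp [memB, List.any_eq_true]

/-- The highest root. -/
def top (D : ChevalleyDatum) : ℕ := Nat.sub D.nroots 1

/-- The column `b` of `x_r(1) - 1`. -/
def colX {D : ChevalleyDatum} (T : Tab D) (r b : ℕ) : Vec :=
  T.colA 1 r b ++ T.colA 2 r b ++ T.colA 3 r b

/-- The radical of the highest root. -/
def inQ {D : ChevalleyDatum} (T : Tab D) (s : ℕ) : Bool :=
  Nat.blt s D.nroots && Nat.ble D.nroots (Nat.mul 2 s) &&
    (Nat.beq s (top D) || decide (T.pairT (top D) s = 1))

/-- A positive root outside the radical. -/
def notQ {D : ChevalleyDatum} (T : Tab D) (s : ℕ) : Bool :=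
  Nat.blt s D.nroots && Nat.ble D.nroots (Nat.mul 2 s) && !inQ T s

/-- The roots reached from the known ones by fundamental reflections. -/
def orbitOK {D : ChevalleyDatum} (T : Tab D) : List (ℕ × ℕ) → List ℕ → Option (List ℕ)
  | [], K => some K
  | (i, s) :: st, K =>
    if Nat.blt i D.rank && memB s K && Nat.blt s D.nroots then
      orbitOK T st (T.reflT i s :: K) else none

/-- A derivation step of a basis vector: a fundamental reflection or a word of root elements. -/
inductive SpanStep where
  | refl (i s : ℕ)
  | word (rs : List ℕ) (b new : ℕ)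

/-- The result of a word. -/
def wordVec {D : ChevalleyDatum} (T : Tab D) (rs : List ℕ) (b : ℕ) : Vec :=
  rs.foldr (fun r v => bindV (colX T r) v) [(b, 1)]

/-- All the intermediate vectors have valid codes. -/
def wordValid {D : ChevalleyDatum} (T : Tab D) : List ℕ → ℕ → Bool
  | [], b => Nat.blt b (Tab.dim D)
  | r :: rs, b => Nat.blt r D.nroots && wordValid T rs b &&
      (wordVec T (r :: rs) b).all (fun p => Nat.blt p.1 (Tab.dim D))

/-- The check of the steps. -/
def spanOK {D : ChevalleyDatum} (T : Tab D) : List SpanStep → List ℕ → Option (List ℕ)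
  | [], K => some K
  | .refl i s :: st, K =>
    if Nat.blt i D.rank && memB s K && Nat.blt s D.nroots then
      spanOK T st (T.reflT i s :: K) else none
  | .word rs b new :: st, K =>
    if Nat.blt new (Tab.dim D) && memB b K && wordValid T rs b &&
        ((wordVec T rs b).all fun p =>
          Nat.beq p.1 new || memB p.1 K || decide (coeff (wordVec T rs b) p.1 = 0)) &&
        Nat.beq (coeff (wordVec T rs b) new).natAbs 1 then
      spanOK T st (new :: K) else none

/-- All checks. -/
def chkFrame {D : ChevalleyDatum} (T : Tab D) (orb : List (ℕ × ℕ)) (sp : List SpanStep) : Bool :=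
  Nat.blt (top D) D.nroots && Nat.ble D.nroots (Nat.mul 2 (top D)) &&
  allBelow (fun s => Nat.beq s (top D) || decide (T.ht s < T.ht (top D))) D.nroots &&
  allBelow (fun s => !(Nat.ble D.nroots (Nat.mul 2 s)) || Nat.beq s (top D) ||
    ((T.commT s (top D)).isEmpty && (T.commT (top D) s).isEmpty)) D.nroots &&
  allBelow (fun s => !(Nat.ble D.nroots (Nat.mul 2 s)) || allBelow (fun t =>
    !(inQ T t) ||
      ((T.commT s t).all (fun c => inQ T c.1) && (T.commT t s).all (fun c => inQ T c.1))) D.nroots)
    D.nroots &&
  allBelow (fun a => !(inQ T a) || allBelow (fun s => !(inQ T s) ||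
    (T.commT a s).all (fun c => Nat.beq c.1 (top D) && Nat.beq c.2.2.1 1 && Nat.beq c.2.2.2 1))
      D.nroots) D.nroots &&
  allBelow (fun s => !(notQ T s) || ((T.commT (Tab.negR D (top D)) s).isEmpty &&
      allBelow (fun t => !(notQ T t) || (T.commT s t).all (fun c => notQ T c.1)) D.nroots))
    D.nroots &&
  (match orbitOK T orb [top D] with
    | none => false
    | some O =>
      memB (Tab.negR D (top D)) O &&
      allBelow (fun s => memB s O ||
        O.any (fun l => Nat.beq (T.pairT l s).natAbs 1 && memB (Tab.negR D l) O)) D.nroots &&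
      (match spanOK T sp O with
        | none => false
        | some K => allBelow (fun b => memB b K) (Tab.dim D)))

end SubfieldMax

end CfsgLib.Chev
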