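import Cfsg.Agent.Chev.Subfield.Main
import Mathlib.FieldTheory.IsAlgClosed.Basic

/-!
Finite groups over an algebraically closed field which contain the points over a finite field: the
reduction modulo a maximal ideal of the ring of their entries.
-/

set_option autoImplicit false
set_option linter.unusedSectionVars false
set_option linter.style.haveILetI false

namespace CfsgLib.Chev

open Cfsg.Lie Matrix
open scoped MatrixGroups

namespace SubfieldMax

open Tab

variable {D : ChevalleyDatum}

/-- A root element over a ring. -/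
def xRing (T : Tab D) (hT : T.Cert) {R : Type*} [CommRing R] (r : ℕ) (t : R) :
    (Matrix D.Idx D.Idx R)ˣ :=
  if hr : r < D.nroots then ⟨T.X R r t, T.X R r (-t), hT.X_mul_neg hr t, hT.X_neg_mul hr t⟩ else 1

theorem map_xRing {T : Tab D} (G : T.Good) {R : Type*} [CommRing R] {F : Type*} [Field F]
    (f : R →+* F) (r : ℕ) (t : R) :
    Units.map f.mapMatrix.toMonoidHom (xRing T G.full.cert r t) = G.full.x r (f t) := by
  by_cases hr : r < D.nroots
  · apply Units.ext
    rw [G.full.coe_x hr, xRing, dif_pos hr]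
    exact Cert.X_map f r t
  · simp [xRing, Full.x, hr]

universe u

/-- A finite group over an algebraically closed field containing the points over the field of `q`
elements. -/
theorem overgroup {k : Type u} [Field k] [IsAlgClosed k] {T : Tab D} (G : T.Good) (F : Frame T)
    (W : SubOK.{u} G) (p : ℕ) [Fact p.Prime] [CharP k p] {a : ℕ} (ha : 1 ≤ a)
    (M : Subgroup (GL D.Idx k)) [Finite M] (hMG : M ≤ D.group k)
    (hL : ∀ s, ∀ t : k, t ^ (p ^ a) = t → G.full.x s t ∈ M) :
    ∃ r, 1 ≤ r ∧ (∀ s, ∀ t : k, t ^ ((p ^ a) ^ r) = t → G.full.x s t ∈ M) ∧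
      ∀ g ∈ M, ∀ i j : D.Idx, ((g : Matrix D.Idx D.Idx k) i j) ^ ((p ^ a) ^ r) =
        (g : Matrix D.Idx D.Idx k) i j := by
  classical
  letI := ZMod.algebra k p
  haveI := Fintype.ofFinite M
  have hp := (Fact.out : p.Prime).two_le
  have hq1 : 1 < p ^ a := Nat.one_lt_pow (by omega) (by omega)
  set q := p ^ a with hqdef
  set N := Nat.card M with hN
  -- the parameters
  have hw : ∀ g : GL D.Idx k, g ∈ D.group k →
      ∃ w : List (ℕ × k), g = (w.map fun e => G.full.x e.1 e.2).prod := by
    intro g hg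
    let W : Subgroup (GL D.Idx k) :=
      { carrier := {g | ∃ w : List (ℕ × k), g = (w.map fun e => G.full.x e.1 e.2).prod}
        one_mem' := ⟨[], by simp⟩
        mul_mem' := by
          rintro _ _ ⟨w, rfl⟩ ⟨w', rfl⟩
          exact ⟨w ++ w', by simp⟩
        inv_mem' := by
          rintro _ ⟨w, rfl⟩
          refine ⟨w.reverse.map fun e => (e.1, -e.2), ?_⟩
          induction w with
          | nil => simp
          | cons e w ih =>
            simp only [List.map_cons, List.prod_cons, _root_.mul_inv_rev, List.reverse_cons,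
              List.map_append, List.prod_append, List.map_nil, List.prod_nil, mul_one,
              G.full.x_inv, ih] }
    exact (G.group_le_iff.mpr fun r _ t => show G.full.x r t ∈ W from ⟨[(r, t)], by simp⟩) hg
  choose w hwg using fun g : M => hw g.1 (hMG g.2)
  let roots : ℕ → Set k := fun r => {x : k | x ^ (q ^ r) = x}
  have hroots : ∀ r, 1 ≤ r → (roots r).Finite := fun r hr =>
    (finite_fixed (Nat.one_lt_pow (by omega) hq1)).1
  let S : Set k := (⋃ g : M, {x | x ∈ (w g).map Prod.snd}) ∪
    ⋃ r ∈ Finset.Icc 1 N, roots r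
  have hS : S.Finite := by
    refine Set.Finite.union (Set.finite_iUnion fun g => List.finite_toSet _) ?_
    exact Set.Finite.biUnion (Finset.finite_toSet _) fun r hr => hroots r (Finset.mem_Icc.mp hr).1
  let R : Subalgebra (ZMod p) k := Algebra.adjoin (ZMod p) S
  haveI : Algebra.FiniteType (ZMod p) R := ⟨(Subalgebra.fg_top R).mpr ⟨hS.toFinset, by simp [R]⟩⟩
  have hparam : ∀ g : M, ∀ e ∈ w g, e.2 ∈ R := fun g e he =>
    Algebra.subset_adjoin (Or.inl (Set.mem_iUnion.mpr ⟨g, List.mem_map_of_mem he⟩))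
  have hrootR : ∀ r, 1 ≤ r → r ≤ N → ∀ x : k, x ^ (q ^ r) = x → x ∈ R := fun r h1 h2 x hx =>
    Algebra.subset_adjoin (Or.inr (Set.mem_biUnion (Finset.mem_Icc.mpr ⟨h1, h2⟩) hx))
  -- the lift of `M`
  let ι : R →+* k := R.val.toRingHom
  have hι : Function.Injective ι := Subtype.val_injective
  let up : (Matrix D.Idx D.Idx R)ˣ →* GL D.Idx k := Units.map ι.mapMatrix.toMonoidHom
  have hup : Function.Injective up := fun g h e => Units.ext (Matrix.ext fun i j =>
    hι (congrFun (congrFun (congrArg (fun m : GL D.Idx k => (m : Matrix D.Idx D.Idx k)) e) i) j))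
  let M' : Subgroup (Matrix D.Idx D.Idx R)ˣ := M.comap up
  haveI : Finite M' := Finite.of_injective (fun g => (⟨up g.1, g.2⟩ : M))
    fun g h e => Subtype.ext (hup (congrArg Subtype.val e))
  have hM'N : Nat.card M' ≤ N := Nat.card_le_card_of_injective (fun g => (⟨up g.1, g.2⟩ : M))
    fun g h e => Subtype.ext (hup (congrArg Subtype.val e))
  have hlift : ∀ g ∈ M, ∃ g', up g' = g ∧ ∀ (κ : Type u) [Field κ] (f : R →+* κ),
      Units.map f.mapMatrix.toMonoidHom g' ∈ D.group κ := by
    intro g hg
    let v : List (Matrix D.Idx D.Idx R)ˣ := (w ⟨g, hg⟩).attach.map fun e =>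
      xRing T G.full.cert e.1.1 (⟨e.1.2, hparam _ _ e.2⟩ : R)
    refine ⟨v.prod, ?_, fun κ _ f => ?_⟩
    · conv_rhs => rw [show g = _ from hwg ⟨g, hg⟩, ← List.attach_map_val (f := fun e : ℕ × k =>
        G.full.x e.1 e.2) (l := w ⟨g, hg⟩)]
      rw [map_list_prod, List.map_map]
      exact congrArg List.prod (List.map_congr_left fun e _ => map_xRing G ι _ _)
    · rw [map_list_prod, List.map_map]
      refine list_prod_mem fun b hb => ?_
      obtain ⟨e, -, rfl⟩ := List.mem_map.mp hb
      show Units.map f.mapMatrix.toMonoidHom (xRing T G.full.cert _ _) ∈ _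
      rw [map_xRing G]
      exact G.x_mem_group _ _
  -- a maximal ideal avoiding the finitely many relevant elements
  let ev : (Matrix D.Idx D.Idx R)ˣ → D.Idx → D.Idx → ℕ → R := fun g i j r =>
    (g : Matrix D.Idx D.Idx R) i j ^ (q ^ r) - (g : Matrix D.Idx D.Idx R) i j
  haveI := Fintype.ofFinite M'
  let Z : Finset R := ((Finset.univ : Finset (M' × D.Idx × D.Idx)).biUnion fun z =>
    (Finset.Icc 1 N).image fun r => ev z.1.1 z.2.1 z.2.2 r).filter (· ≠ 0)
  obtain ⟨m, hm, hZm⟩ : ∃ m : Ideal R, m.IsMaximal ∧ ∏ z ∈ Z, z ∉ m := by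
    by_contra hno
    simp only [not_exists, not_and, not_not] at hno
    haveI : IsJacobsonRing R := isJacobsonRing_of_finiteType (A := ZMod p)
    have h : ∏ z ∈ Z, z ∈ (⊥ : Ideal R).jacobson :=
      Ideal.mem_sInf.mpr fun {J} hJ => hno J hJ.2
    rw [← Ideal.radical_eq_jacobson, (Ideal.isPrime_bot (α := R)).radical, Ideal.mem_bot,
      Finset.prod_eq_zero_iff] at h
    obtain ⟨z, hz, rfl⟩ := h
    exact (Finset.mem_filter.mp hz).2 rfl
  have hZ : ∀ g ∈ M', ∀ i j, ∀ r, 1 ≤ r → r ≤ N → ev g i j r ∈ m → ev g i j r = 0 := by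
    intro g hg i j r h1 h2 he
    by_contra h0
    refine hZm (Ideal.mem_of_dvd m (Finset.dvd_prod_of_mem (fun z => z) ?_) he)
    exact Finset.mem_filter.mpr ⟨Finset.mem_biUnion.mpr ⟨(⟨g, hg⟩, i, j), Finset.mem_univ _,
      Finset.mem_image.mpr ⟨r, Finset.mem_Icc.mpr ⟨h1, h2⟩, rfl⟩⟩, h0⟩
  letI := Ideal.Quotient.field m
  haveI : Algebra.FiniteType (ZMod p) (R ⧸ m) :=
    Algebra.FiniteType.of_surjective (Ideal.Quotient.mkₐ (ZMod p) m) Ideal.Quotient.mk_surjective
  haveI : Module.Finite (ZMod p) (R ⧸ m) :=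
    finite_of_finite_type_of_isJacobsonRing (ZMod p) (R ⧸ m)
  haveI : Finite (R ⧸ m) := Module.finite_of_finite (ZMod p)
  haveI : CharP (R ⧸ m) p := charP_of_injective_algebraMap (algebraMap (ZMod p) (R ⧸ m)).injective p
  let π : R →+* R ⧸ m := Ideal.Quotient.mk m
  let down : (Matrix D.Idx D.Idx R)ˣ →* GL D.Idx (R ⧸ m) := Units.map π.mapMatrix.toMonoidHom
  -- roots are separated by `m`
  have hsep : ∀ r, 1 ≤ r → ∀ x y : R, (x : k) ^ (q ^ r) = x → (y : k) ^ (q ^ r) = y →
      π x = π y → x = y := by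
    intro r hr x y hx hy e
    by_contra hne
    have hd : (x - y) ^ (q ^ r) = x - y := by
      refine Subtype.ext ?_
      push_cast
      rw [hqdef, ← pow_mul, sub_pow_char_pow, pow_mul, ← hqdef, hx, hy]
    have h0 : π (x - y) = 0 := by rw [map_sub, e, sub_self]
    have hQ : 1 < q ^ r := Nat.one_lt_pow (by omega) hq1
    have hu : (x - y) ^ (q ^ r - 1) = 1 := mul_left_cancel₀ (sub_ne_zero.mpr hne) (by
      rw [← pow_succ', Nat.sub_add_cancel hQ.le, hd, mul_one])
    have := congrArg π hu
    rw [map_pow, h0, zero_pow (by omega), map_one] at this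
    exact zero_ne_one this
  have hcount : {x : R ⧸ m | x ^ q = x}.ncard = q := by
    refine le_antisymm (finite_fixed hq1).2 ?_
    obtain ⟨φ⟩ : Nonempty (GaloisField p a →ₐ[ZMod p] k) :=
      ⟨IsAlgClosed.lift⟩
    haveI := Fintype.ofFinite (GaloisField p a)
    have hcard : Fintype.card (GaloisField p a) = q := by
      rw [← Nat.card_eq_fintype_card, GaloisField.card p a (by omega)]
    have hfix : ∀ z, (φ z) ^ q = φ z := fun z => by
      rw [← map_pow, ← hcard, FiniteField.pow_card]
    have hN1 : 1 ≤ N := Nat.one_le_iff_ne_zero.mpr Finite.card_pos.ne'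
    let ψ : GaloisField p a → R := fun z =>
      ⟨φ z, hrootR 1 le_rfl hN1 _ (by rw [pow_one]; exact hfix z)⟩
    have hinj : Function.Injective (fun z => π (ψ z)) := fun z z' e =>
      φ.injective (congrArg Subtype.val (hsep 1 le_rfl (ψ z) (ψ z')
        (by rw [pow_one]; exact hfix z) (by rw [pow_one]; exact hfix z') e))
    calc q = Nat.card (GaloisField p a) := (GaloisField.card p a (by omega)).symm
      _ = (Set.range fun z => π (ψ z)).ncard := by
        rw [← Nat.card_coe_set_eq, Nat.card_range_of_injective hinj]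
      _ ≤ _ := by
        refine Set.ncard_le_ncard ?_ (finite_fixed hq1).1
        rintro _ ⟨z, rfl⟩
        show π (ψ z) ^ q = π (ψ z)
        rw [← map_pow]
        exact congrArg π (Subtype.ext (hfix z))
  -- the image
  let H : Subgroup (GL D.Idx (R ⧸ m)) := M'.map down
  have hHG : H ≤ D.group (R ⧸ m) := by
    rintro _ ⟨g, hg, rfl⟩
    obtain ⟨g', hg', hgr⟩ := hlift _ hg
    rw [hup hg'] at hgr
    exact hgr _ π
  have hHrat : ∀ s, ∀ t : R ⧸ m, t ^ q = t → G.full.x s t ∈ H := by
    intro s t ht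
    -- every root lifts
    have hsurj : ∀ y : R ⧸ m, y ^ q = y → ∃ x : R, (x : k) ^ q = x ∧ π x = y := by
      intro y hy
      have h1 : π '' {x : R | (x : k) ^ q = x} = {y : R ⧸ m | y ^ q = y} := by
        refine Set.eq_of_subset_of_ncard_le ?_ ?_ (finite_fixed hq1).1
        · rintro _ ⟨x, hx, rfl⟩
          show π x ^ q = π x
          rw [← map_pow]
          exact congrArg π (Subtype.ext hx)
        · rw [hcount, Set.InjOn.ncard_image fun x hx y hy e => hsep 1 le_rfl x y
            (by rw [pow_one]; exact hx) (by rw [pow_one]; exact hy) e]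
          obtain ⟨φ⟩ : Nonempty (GaloisField p a →ₐ[ZMod p] k) := ⟨IsAlgClosed.lift⟩
          haveI := Fintype.ofFinite (GaloisField p a)
          have hfix : ∀ z, (φ z) ^ q = φ z := fun z => by
            rw [← map_pow, hqdef, ← GaloisField.card p a (by omega), Nat.card_eq_fintype_card,
              FiniteField.pow_card]
          have hfin : {x : R | (x : k) ^ q = x}.Finite :=
            Set.Finite.of_finite_image (f := Subtype.val)
              ((finite_fixed (K := k) hq1).1.subset (by rintro _ ⟨x, hx, rfl⟩; exact hx))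
              Subtype.val_injective.injOn
          haveI := hfin.to_subtype
          rw [← Nat.card_coe_set_eq]
          refine le_of_eq_of_le (GaloisField.card p a (by omega)).symm
            (Nat.card_le_card_of_injective (fun z => ⟨⟨φ z, hrootR 1 le_rfl
              (Nat.one_le_iff_ne_zero.mpr Finite.card_pos.ne') _
              (by rw [pow_one]; exact hfix z)⟩, hfix z⟩) fun z z' e => ?_)
          exact φ.injective (congrArg (fun x : {x : R | (x : k) ^ q = x} => (x.1 : k)) e)
      exact h1.symm.subset hy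
    obtain ⟨x, hx, rfl⟩ := hsurj t ht
    refine ⟨xRing T G.full.cert s x, ?_, map_xRing G π s x⟩
    show up _ ∈ M
    rw [show up (xRing T G.full.cert s x) = G.full.x s (x : k) from map_xRing G ι s x]
    exact hL s _ hx
  haveI : Finite H := inferInstance
  obtain ⟨r, hr1, hrH, hcQ, -, hgen, hent⟩ := main_finite G F W p ha hcount H hHrat hHG
  have hHN : Nat.card H ≤ N := le_trans (Nat.card_le_card_of_surjective
    (fun g : M' => (⟨down g.1, ⟨g.1, g.2, rfl⟩⟩ : H))
    (by rintro ⟨_, g, hg, rfl⟩; exact ⟨⟨g, hg⟩, rfl⟩)) hM'N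
  have hrN : r ≤ N := le_trans hrH hHN
  set Q := q ^ r with hQ
  have hQ1 : 1 < Q := Nat.one_lt_pow (by omega) hq1
  -- entries
  have hentM : ∀ g ∈ M', ∀ i j, ((g : Matrix D.Idx D.Idx R) i j : k) ^ Q =
      ((g : Matrix D.Idx D.Idx R) i j : k) := by
    intro g hg i j
    have h := hent _ ⟨g, hg, rfl⟩ i j
    change π ((g : Matrix D.Idx D.Idx R) i j) ^ Q = π ((g : Matrix D.Idx D.Idx R) i j) at h
    rw [← map_pow] at h
    have h0 := hZ g hg i j r hr1 hrN (Ideal.Quotient.eq.mp h)
    exact congrArg Subtype.val (sub_eq_zero.mp h0)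
  refine ⟨r, hr1, fun s t ht => ?_, fun g hg i j => ?_⟩
  · let x : R := ⟨t, hrootR r hr1 hrN t ht⟩
    have hx : π x ^ Q = π x := by
      rw [← map_pow]
      exact congrArg π (Subtype.ext ht)
    obtain ⟨g, hg, e⟩ := hgen s (π x) hx
    have e2 : down g = down (xRing T G.full.cert s x) := e.trans (map_xRing G π s x).symm
    have e3 : ∀ i j, π ((g : Matrix D.Idx D.Idx R) i j) =
        π ((xRing T G.full.cert s x : Matrix D.Idx D.Idx R) i j) := fun i j =>
      congrArg (fun y : GL D.Idx (R ⧸ m) => y.val i j) e2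
    have hgx : g = xRing T G.full.cert s x := by
      refine Units.ext (Matrix.ext fun i j => hsep r hr1 _ _ (hentM g hg i j) ?_
        (e3 i j))
      show (ι _) ^ Q = ι _
      have hf : glMap D (iterateFrobenius k p (a * r)) (G.full.x s t) = G.full.x s t := by
        rw [G.glMap_x, iterateFrobenius_def p (a * r) t, pow_mul, ← hqdef, ← hQ, ht]
      rw [← show up (xRing T G.full.cert s x) = G.full.x s t from map_xRing G ι s x] at hf
      have := congrArg (fun y : GL D.Idx k => (y : Matrix D.Idx D.Idx k) i j) hf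
      simp only [glMap_coe, RingHom.mapMatrix_apply, Matrix.map_apply,
        iterateFrobenius_def] at this
      rw [pow_mul, ← hqdef] at this
      exact this
    have hg' : up g ∈ M := hg
    rw [hgx, show up (xRing T G.full.cert s x) = G.full.x s t from map_xRing G ι s x] at hg'
    exact hg'
  · obtain ⟨g', rfl, -⟩ := hlift g hg
    exact hentM g' hg i j

end SubfieldMax

end CfsgLib.Chev
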