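import Cfsg.Agent.Chev.Subfield.Check
import Cfsg.Agent.Chev.SteinbergPres

/-!
The highest root element in a Chevalley group: conjugates, a rationality criterion by the
coefficient of the lowest root vector, and generation from the highest root group.
-/

set_option autoImplicit false
set_option linter.unusedSectionVars false

namespace CfsgLib.Chev

open Cfsg.Lie Matrix
open scoped MatrixGroups

namespace SubfieldMax

open Tab

variable {D : ChevalleyDatum}

/-- The radical of the highest root as a set. -/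
def qs (T : Tab D) : Set ℕ := {s | inQ T s = true}

/-- The facts obtained from the checks. -/
structure Frame (T : Tab D) : Prop where
  top_lt : top D < D.nroots
  top_pos : D.nroots ≤ 2 * top D
  ht_le : ∀ s < D.nroots, T.ht s ≤ T.ht (top D)
  comm_top : ∀ s, IsPos D s → s ≠ top D →
    T.commT s (top D) = [] ∧ T.commT (top D) s = []
  closedQ : T.Closed (qs T)
  closedN : T.Closed {s | notQ T s = true}
  commQ : ∀ a ∈ qs T, ∀ s ∈ qs T, ∀ c ∈ T.commT a s,
    c.1 = top D ∧ c.2.2.1 = 1 ∧ c.2.2.2 = 1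
  commN : ∀ s, notQ T s = true → T.commT (negR D (top D)) s = []
  orbit : ∃ st O, orbitOK T st [top D] = some O ∧ negR D (top D) ∈ O ∧
    (∀ s < D.nroots, s ∈ O ∨ ∃ l ∈ O, (T.pairT l s).natAbs = 1 ∧ negR D l ∈ O) ∧
    ∃ sp B, spanOK T sp O = some B ∧ ∀ b < dim D, b ∈ B

theorem inQ_iff (T : Tab D) {s : ℕ} : inQ T s = true ↔
    (s < D.nroots ∧ D.nroots ≤ 2 * s) ∧ (s = top D ∨ T.pairT (top D) s = 1) := by
  simp [inQ]

theorem notQ_iff (T : Tab D) {s : ℕ} : notQ T s = true ↔ IsPos D s ∧ ¬ inQ T s = true := by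
  simp [notQ, IsPos]

theorem frame_of_chk {T : Tab D} {orb : List (ℕ × ℕ)} {sp : List SpanStep}
    (h : chkFrame T orb sp = true) : Frame T := by
  simp only [chkFrame, Bool.and_eq_true, allBelow_iff, Bool.or_eq_true, Bool.not_eq_true',
    Nat.beq_eq, decide_eq_true_eq, List.all_eq_true, List.isEmpty_iff, Nat.blt_eq,
    Nat.ble_eq] at h
  obtain ⟨⟨⟨⟨⟨⟨⟨h1, h2⟩, h3⟩, h4⟩, h5⟩, h6⟩, h7⟩, h8⟩ := h
  have hq : ∀ {s}, s ∈ qs T → IsPos D s := fun hs => ((inQ_iff T).mp hs).1
  have hb : ∀ {s}, IsPos D s → ¬ Nat.ble D.nroots (Nat.mul 2 s) = false := fun hs e => by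
    have := hs.2
    rw [← Bool.not_eq_true, Nat.ble_eq] at e
    exact e this
  have hQ : T.Closed (qs T) := ⟨fun _ hr => hq hr, fun r hr s hs c hc =>
    (((h5 r (hq hr).1).resolve_left (hb (hq hr))) s (hq hs).1 |>.resolve_left
      (by rw [show inQ T s = true from hs]; simp)).1 c hc⟩
  refine
    { top_lt := h1
      top_pos := h2
      ht_le := fun s hs => ?_
      comm_top := fun s hs hne => ?_
      closedQ := hQ
      closedN := ?_
      commQ := fun a ha s hs c hc => ?_
      commN := fun s hs => ?_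
      orbit := ?_ }
  · rcases h3 s hs with e | e
    · rw [e]
    · exact e.le
  · rcases h4 s hs.1 with (e | e) | e
    · exact absurd e (hb hs)
    · exact absurd e hne
    · exact e
  · refine ⟨fun r hr => ((notQ_iff T).mp hr).1, fun r hr s hs c hc => ?_⟩
    have hr' := ((notQ_iff T).mp hr).1
    have hs' := ((notQ_iff T).mp hs).1
    exact ((h7 r hr'.1).resolve_left (by rw [show notQ T r = true from hr]; simp)).2 s hs'.1
      |>.resolve_left (by rw [show notQ T s = true from hs]; simp) c hc
  · have := ((h6 a (hq ha).1).resolve_left (by rw [show inQ T a = true from ha]; simp)) s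
      (hq hs).1 |>.resolve_left (by rw [show inQ T s = true from hs]; simp) c hc
    exact ⟨this.1.1, this.1.2, this.2⟩
  · have hs' := ((notQ_iff T).mp hs).1
    exact ((h7 s hs'.1).resolve_left (by rw [hs]; simp)).1
  · split at h8
    · exact absurd h8 Bool.false_ne_true
    · rename_i O hO
      simp only [Bool.and_eq_true, memB_iff, allBelow_iff, Bool.or_eq_true, List.any_eq_true,
        Nat.beq_eq] at h8
      obtain ⟨⟨h8, h9⟩, h10⟩ := h8
      refine ⟨_, O, hO, h8, h9, ?_⟩
      split at h10
      · exact absurd h10 Bool.false_ne_true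
      · rename_i B hB
        simp only [allBelow_iff, memB_iff] at h10
        exact ⟨sp, B, hB, h10⟩

/-- The index of the highest root vector. -/
def Frame.hiI {T : Tab D} (F : Frame T) : D.Idx := Sum.inr ⟨top D, F.top_lt⟩

/-- The index of the lowest root vector. -/
def Frame.loI {T : Tab D} (F : Frame T) : D.Idx :=
  Sum.inr ⟨negR D (top D), Cert.negR_lt F.top_lt⟩

/-- The coefficient of the lowest root vector in the image of the highest one. -/
def Frame.cf {T : Tab D} (F : Frame T) {K : Type*} [Field K] (g : GL D.Idx K) : K :=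
  (g : Matrix D.Idx D.Idx K) F.loI F.hiI

/-- The subgroup generated by the rational root elements. -/
def rat {T : Tab D} (G : T.Good) {K : Type*} [Field K] (σ : K →+* K) :
    Subgroup (GL D.Idx K) :=
  Subgroup.closure {g | ∃ r < D.nroots, ∃ t, σ t = t ∧ g = G.full.x r t}

/-- The vector of a sparse vector. -/
def evV (D : ChevalleyDatum) (K : Type*) [Field K] (v : Vec) : D.Idx → K :=
  fun x => (coeff v (code x) : K)

theorem exists_code {b : ℕ} (hb : b < dim D) : ∃ x : D.Idx, code x = b := by
  change b < D.nroots + D.rank at hb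
  by_cases h : b < D.nroots
  · exact ⟨Sum.inr ⟨b, h⟩, rfl⟩
  · exact ⟨Sum.inl ⟨b - D.nroots, by omega⟩, (code_inl _).trans (Nat.add_sub_cancel' (not_lt.mp h))⟩

variable {T : Tab D} (G : T.Good) {K : Type*} [Field K] (σ : K →+* K)
include G

theorem x_mem_rat (r : ℕ) {t : K} (ht : σ t = t) : G.full.x r t ∈ rat G σ := by
  by_cases hr : r < D.nroots
  · exact Subgroup.subset_closure ⟨r, hr, t, ht, rfl⟩
  · simp [Full.x, hr, one_mem]

theorem nr_mem_rat (r : ℕ) {t : K} (ht : σ t = t) : G.full.nr r t ∈ rat G σ :=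
  mul_mem (mul_mem (x_mem_rat G σ _ ht) (x_mem_rat G σ _ (by simp [map_inv₀, ht])))
    (x_mem_rat G σ _ ht)

theorem ns_mem_rat (i : ℕ) : G.full.ns K i ∈ rat G σ := nr_mem_rat G σ _ (map_one σ)

theorem nw_mem_rat (L : List (Fin D.rank)) : G.full.nw K L ∈ rat G σ := by
  refine list_prod_mem fun g hg => ?_
  obtain ⟨i, -, rfl⟩ := List.mem_map.mp hg
  exact ns_mem_rat G σ i

theorem rat_le_group : rat G σ ≤ D.group K := by
  rw [rat, Subgroup.closure_le]
  rintro _ ⟨r, -, t, -, rfl⟩
  exact G.x_mem_group r t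

theorem glMap_rat {g : GL D.Idx K} (hg : g ∈ rat G σ) : glMap D σ g = g := by
  have h : rat G σ ≤ (glMap D σ).eqLocus (MonoidHom.id _) := by
    rw [rat, Subgroup.closure_le]
    rintro _ ⟨r, -, t, ht, rfl⟩
    show glMap D σ _ = _
    rw [G.glMap_x, ht]
    rfl
  exact h hg

/-- The image of a root vector under a word of the `n_i`. -/
theorem nw_col (L : List (Fin D.rank)) (s : Fin D.nroots) : ∃ η : K, η * η = 1 ∧
    (∀ x, (G.full.nw K L : Matrix D.Idx D.Idx K) x (Sum.inr s) =
      if x = Sum.inr (G.full.pw L s) then η else 0) ∧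
    ∀ t, G.full.nw K L * G.full.x s t * (G.full.nw K L)⁻¹ =
      G.full.x (G.full.pw L s) (η * t) := by
  induction L with
  | nil =>
    refine ⟨1, one_mul 1, fun x => ?_, fun t => ?_⟩
    · simp [Full.nw, Full.pw, Matrix.one_apply]
    · simp [Full.nw, Full.pw]
  | cons i L ih =>
    obtain ⟨η, hη, hc, hx⟩ := ih
    set r := G.full.pw L s
    have hsg : ((T.sgn i r : ℤ) : K) * ((T.sgn i r : ℤ) : K) = 1 := by
      rcases (G.full.reflT_spec i.isLt r.isLt).2.2.2.2.2.2.1 with h | h <;> simp [h]
    refine ⟨(T.sgn i r : K) * η, by linear_combination hη + (η * η) * hsg, fun x => ?_,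
      fun t => ?_⟩
    · rw [G.nw_cons, Units.val_mul, Matrix.mul_apply, Finset.sum_eq_single (Sum.inr r)]
      · rw [hc, if_pos rfl, Full.ns, ← Units.val_one, G.full.coe_nr_simple i.isLt,
          G.full.NX_root i.isLt, G.pw_cons]
        have e : code x = T.reflT i r ↔ x = Sum.inr (G.full.refl i r) :=
          ⟨fun h => code_injective (h.trans (code_inr (D := D) (G.full.refl i r)).symm),
            fun h => by rw [h]; rfl⟩
        simp only [_root_.one_zpow, Units.val_one, one_mul, e]
        rw [Equiv.Perm.mul_apply, ite_mul, zero_mul]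
      · intro y _ hy
        rw [hc, if_neg hy, mul_zero]
      · simp
    · rw [G.nw_cons, show G.full.ns K i * G.full.nw K L * G.full.x s t *
          (G.full.ns K i * G.full.nw K L)⁻¹ = G.full.ns K i *
          (G.full.nw K L * G.full.x s t * (G.full.nw K L)⁻¹) * (G.full.ns K i)⁻¹ by group,
        hx, G.full.ns_conj i.isLt r.isLt, G.pw_cons, mul_assoc]
      rfl

theorem pw_reverse (L : List (Fin D.rank)) (s : Fin D.nroots) :
    G.full.pw L.reverse (G.full.pw L s) = s := by
  induction L generalizing s with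
  | nil => rfl
  | cons i L ih =>
    rw [List.reverse_cons, G.pw_append, Equiv.Perm.mul_apply, G.pw_singleton, G.pw_cons,
      Equiv.Perm.mul_apply]
    rw [show G.full.refl i (G.full.refl i (G.full.pw L s)) = G.full.pw L s from
      Fin.ext (G.full.reflT_spec i.isLt (G.full.pw L s).isLt).2.1, ih]

section

variable (F : Frame T)
include F

theorem top_isPos : IsPos D (top D) := ⟨F.top_lt, F.top_pos⟩

/-- The roots of the orbit are images of the highest root. -/
theorem orbit_word {st : List (ℕ × ℕ)} {B O : List ℕ} (h : orbitOK T st B = some O)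
    (hB : ∀ s ∈ B, ∃ (hs : s < D.nroots) (L : List (Fin D.rank)),
      G.full.pw L ⟨top D, F.top_lt⟩ = ⟨s, hs⟩) :
    ∀ s ∈ O, ∃ (hs : s < D.nroots) (L : List (Fin D.rank)),
      G.full.pw L ⟨top D, F.top_lt⟩ = ⟨s, hs⟩ := by
  induction st generalizing B with
  | nil =>
    simp only [orbitOK, Option.some.injEq] at h
    exact h ▸ hB
  | cons p st ih =>
    obtain ⟨i, s⟩ := p
    simp only [orbitOK] at h
    split_ifs at h with hc
    simp only [Bool.and_eq_true, Nat.blt_eq, memB_iff] at hc
    obtain ⟨⟨hi, hs⟩, hsl⟩ := hc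
    refine ih h fun r hr => ?_
    rcases List.mem_cons.mp hr with rfl | hr
    · obtain ⟨_, L, hL⟩ := hB s hs
      refine ⟨(G.full.reflT_spec hi hsl).1, ⟨i, hi⟩ :: L, ?_⟩
      rw [G.pw_cons, Equiv.Perm.mul_apply, hL]
      rfl
    · exact hB r hr

theorem base_word : ∀ s ∈ [top D], ∃ (hs : s < D.nroots) (L : List (Fin D.rank)),
    G.full.pw L ⟨top D, F.top_lt⟩ = ⟨s, hs⟩ := by
  intro s hs
  rw [List.mem_singleton] at hs
  subst hs
  exact ⟨F.top_lt, [], rfl⟩

/-- Root groups of the orbit are rationally conjugate to the highest one. -/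
theorem orbit_conj {st : List (ℕ × ℕ)} {O : List ℕ} (h : orbitOK T st [top D] = some O)
    {s : ℕ} (hs : s ∈ O) : ∃ g ∈ rat G σ, ∃ η : K, η * η = 1 ∧
      ∀ t, g * G.full.x (top D) t * g⁻¹ = G.full.x s (η * t) := by
  obtain ⟨hlt, L, hL⟩ := orbit_word G F h (base_word G F) s hs
  obtain ⟨η, hη, -, hx⟩ := nw_col G (K := K) L ⟨top D, F.top_lt⟩
  refine ⟨_, nw_mem_rat G σ L, η, hη, fun t => ?_⟩
  rw [hx, hL]

theorem top_comm {u : GL D.Idx K} (hu : u ∈ G.US K {r | IsPos D r}) (t : K) :
    Commute u (G.full.x (top D) t) := by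
  induction hu using Subgroup.closure_induction with
  | mem u hu =>
    obtain ⟨r, hr, v, rfl⟩ := hu
    rcases eq_or_ne r (top D) with rfl | hne
    · show _ * _ = _ * _
      rw [G.full.x_add, G.full.x_add, add_comm]
    · have h := G.full.x_comm F.top_lt hr.1 hne ((G.ord_spec (top_isPos G F)).2 r hr) t v
      rw [G.full.cert.commWord_eq F.top_lt hr.1] at h
      simp only [rhsWord, (F.comm_top r hr hne).2, List.map_nil, List.prod_nil, mul_one] at h
      exact h
  | one => exact Commute.one_left _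
  | mul a b _ _ ha hb => exact ha.mul_left hb
  | inv a _ ha => exact ha.inv_left

theorem botQ_comm {u : GL D.Idx K} (hu : u ∈ G.US K {s | notQ T s = true}) (t : K) :
    Commute u (G.full.x (negR D (top D)) t) := by
  induction hu using Subgroup.closure_induction with
  | mem u hu =>
    obtain ⟨r, hr, v, rfl⟩ := hu
    have hn := Cert.negR_lt (D := D) F.top_lt
    obtain ⟨hp, hq⟩ := (notQ_iff T).mp hr
    have h1 : r ≠ negR D (top D) := fun e => by
      have := G.negR_pos (top_isPos G F)
      rw [← e] at this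
      exact this hp.2
    have h2 : r ≠ negR D (negR D (top D)) := by
      rw [Cert.negR_negR F.top_lt]
      rintro rfl
      exact hq ((inQ_iff T).mpr ⟨hp, Or.inl rfl⟩)
    have h := G.full.x_comm hn hp.1 h1 h2 t v
    rw [G.full.cert.commWord_eq hn hp.1] at h
    simp only [rhsWord, F.commN r hr, List.map_nil, List.prod_nil, mul_one] at h
    exact h
  | one => exact Commute.one_left _
  | mul a b _ _ ha hb => exact ha.mul_left hb
  | inv a _ ha => exact ha.inv_left

theorem col_hi {u : GL D.Idx K} (hu : u ∈ D.posUnipotent K) (x : D.Idx) :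
    (u : Matrix D.Idx D.Idx K) x F.hiI = (1 : Matrix D.Idx D.Idx K) x F.hiI := by
  refine G.grUni_pos hu _ _ ?_
  rw [one_mul, one_mul, show code F.hiI = top D from rfl, T.gr_root F.top_lt]
  rcases x with j | s
  · rw [code_inl, T.gr_h (Nat.le_add_right _ _)]
    exact ((G.full.cert.root_spec F.top_lt).2.1.mpr F.top_pos).le
  · rw [code_inr, T.gr_root s.isLt]
    exact F.ht_le _ s.isLt

theorem row_lo {u : GL D.Idx K} (hu : u ∈ D.posUnipotent K) (x : D.Idx) :
    (u : Matrix D.Idx D.Idx K) F.loI x = (1 : Matrix D.Idx D.Idx K) F.loI x := by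
  refine G.grUni_pos hu _ _ ?_
  rw [one_mul, one_mul, show code F.loI = negR D (top D) from rfl,
    T.gr_root (Cert.negR_lt F.top_lt), (G.full.cert.root_spec F.top_lt).2.2.1]
  rcases x with j | s
  · rw [code_inl, T.gr_h (Nat.le_add_right _ _)]
    have := (G.full.cert.root_spec F.top_lt).2.1.mpr F.top_pos
    omega
  · rw [code_inr, T.gr_root s.isLt]
    have h := F.ht_le _ (Cert.negR_lt s.isLt)
    rw [(G.full.cert.root_spec s.isLt).2.2.1] at h
    omega

/-- The image of the highest root vector and root group. -/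
theorem top_form {g : GL D.Idx K} (hg : g ∈ D.group K) :
    ∃ v ∈ D.posUnipotent K, ∃ L : List (Fin D.rank), ∃ e : K, e ≠ 0 ∧
      (∀ x, (g : Matrix D.Idx D.Idx K) x F.hiI =
        (v : Matrix D.Idx D.Idx K) x (Sum.inr (G.full.pw L ⟨top D, F.top_lt⟩)) * e) ∧
      ∀ t, g * G.full.x (top D) t * g⁻¹ =
        v * G.full.x (G.full.pw L ⟨top D, F.top_lt⟩) (e * t) * v⁻¹ := by
  obtain ⟨v, hv, c, L, u, hu, rfl⟩ := G.normal_form hg
  have hu' : u ∈ D.posUnipotent K := by
    rw [G.posUnipotent_eq]
    exact G.US_mono (S := flipSet (G.full.pw L)) (fun r hr => hr.2.1) hu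
  obtain ⟨η, hη, hc, hx⟩ := nw_col G (K := K) L ⟨top D, F.top_lt⟩
  set w := G.full.pw L ⟨top D, F.top_lt⟩
  have hη0 : η ≠ 0 := left_ne_zero_of_mul_eq_one hη
  refine ⟨v, hv, L, (T.chi (F := K) w.val c : K) * η,
    mul_ne_zero (Units.ne_zero _) hη0, fun x => ?_, fun t => ?_⟩
  · rw [Units.val_mul, Matrix.mul_apply, Finset.sum_eq_single F.hiI]
    · rw [col_hi G F hu', Matrix.one_apply_eq, mul_one, Units.val_mul, Matrix.mul_apply,
        Finset.sum_eq_single (Sum.inr w)]
      · rw [G.mul_hT_apply, show F.hiI = Sum.inr ⟨top D, F.top_lt⟩ from rfl, hc, if_pos rfl,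
          T.coe_hT, Matrix.diagonal_apply_eq, Sum.elim_inr, mul_assoc]
      · intro y _ hy
        rw [show F.hiI = Sum.inr ⟨top D, F.top_lt⟩ from rfl, hc, if_neg hy, mul_zero]
      · simp
    · intro y _ hy
      rw [col_hi G F hu', Matrix.one_apply_ne hy, mul_zero]
    · simp
  · have e1 : u * G.full.x (top D) t * u⁻¹ = G.full.x (top D) t := by
      rw [(top_comm G F (by rwa [← G.posUnipotent_eq]) t).eq, mul_inv_cancel_right]
    rw [show v * T.hT K c * G.full.nw K L * u * G.full.x (top D) t *
        (v * T.hT K c * G.full.nw K L * u)⁻¹ = v * (T.hT K c * (G.full.nw K L *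
          (u * G.full.x (top D) t * u⁻¹) * (G.full.nw K L)⁻¹) * (T.hT K c)⁻¹) * v⁻¹ by group,
      e1, hx, G.full.hT_conj w.isLt, mul_assoc (T.chi (F := K) w.val c : K)]

/-- A conjugate of the highest root group opposite to it. -/
theorem conj_top {g : GL D.Idx K} (hg : g ∈ D.group K) (h0 : F.cf g ≠ 0) :
    ∃ q ∈ G.US K (qs T), ∀ t, g * G.full.x (top D) t * g⁻¹ =
      q * G.full.x (negR D (top D)) (F.cf g * t) * q⁻¹ := by
  obtain ⟨v, hv, L, e, -, hcol, hx⟩ := top_form G F hg
  have h := hcol F.loI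
  rw [row_lo G F hv] at h
  have hw : G.full.pw L ⟨top D, F.top_lt⟩ = ⟨negR D (top D), Cert.negR_lt F.top_lt⟩ := by
    by_contra hne
    refine h0 ?_
    rw [Frame.cf, h, Matrix.one_apply_ne ?_, zero_mul]
    exact fun he => hne (Sum.inr.inj he).symm
  rw [hw, show F.loI = Sum.inr ⟨negR D (top D), Cert.negR_lt F.top_lt⟩ from rfl,
    Matrix.one_apply_eq, one_mul] at h
  rw [G.posUnipotent_eq] at hv
  obtain ⟨q, hq, z, hz, rfl⟩ := G.US_split F.closedQ F.closedN G.closed_pos (by
    ext s
    by_cases hi : inQ T s = true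
    · exact ⟨fun _ => Or.inl hi, fun _ => ((inQ_iff T).mp hi).1⟩
    · exact ⟨fun hs => Or.inr ((notQ_iff T).mpr ⟨hs, hi⟩), fun hs => hs.elim
        (fun h => absurd h hi) fun h => ((notQ_iff T).mp h).1⟩) hv
  refine ⟨q, hq, fun t => ?_⟩
  rw [hx, hw]
  show q * z * G.full.x (negR D (top D)) (e * t) * (q * z)⁻¹ = _
  rw [show F.cf g = e from h, show q * z * G.full.x (negR D (top D)) (e * t) * (q * z)⁻¹ =
    q * (z * G.full.x (negR D (top D)) (e * t) * z⁻¹) * q⁻¹ by group,
    (botQ_comm G F hz _).eq, mul_inv_cancel_right]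

/-- The rational translates of the highest root vector. -/
def topSpan : Submodule K (D.Idx → K) :=
  Submodule.span K ((fun g : GL D.Idx K => (g : Matrix D.Idx D.Idx K) *ᵥ Pi.single F.hiI 1) ''
    (rat G σ : Set (GL D.Idx K)))

theorem topSpan_stable {g : GL D.Idx K} (hg : g ∈ rat G σ) {v : D.Idx → K}
    (hv : v ∈ topSpan G σ F) : (g : Matrix D.Idx D.Idx K) *ᵥ v ∈ topSpan G σ F := by
  induction hv using Submodule.span_induction with
  | mem v hv =>
    obtain ⟨a, ha, rfl⟩ := hv
    refine Submodule.subset_span ⟨g * a, mul_mem hg ha, ?_⟩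
    show ((g * a : GL D.Idx K) : Matrix D.Idx D.Idx K) *ᵥ Pi.single F.hiI 1 = _
    rw [Units.val_mul, ← Matrix.mulVec_mulVec]
  | zero => simp
  | add a b _ _ ha hb => rw [Matrix.mulVec_add]; exact add_mem ha hb
  | smul c a _ ha => rw [Matrix.mulVec_smul]; exact Submodule.smul_mem _ c ha

theorem x_one_evV {r : ℕ} (hr : r < D.nroots) (v : Vec) (hv : ∀ p ∈ v, p.1 < dim D) :
    (G.full.x r (1 : K) : Matrix D.Idx D.Idx K) *ᵥ evV D K v =
      evV D K v + evV D K (bindV (colX T r) v) := by
  have key : ∀ x : D.Idx, (∑ y : D.Idx, coeff (colX T r (code y)) (code x) * coeff v (code y)) =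
      coeff (bindV (colX T r) v) (code x) := fun x => by
    rw [coeff_bindV]
    exact sum_coeff_mul code code_injective v (fun p hp => exists_code (hv p hp))
      fun k => coeff (colX T r k) (code x)
  funext x
  simp only [Matrix.mulVec, dotProduct, Pi.add_apply, evV, ← key x, Int.cast_sum, Int.cast_mul]
  have e : ∀ y, (G.full.x r (1 : K) : Matrix D.Idx D.Idx K) x y =
      (1 : Matrix D.Idx D.Idx K) x y + (coeff (colX T r (code y)) (code x) : K) := fun y => by
    rw [G.full.coe_x hr]
    simp [X, Finset.sum_range_succ, T.P_zero, T.P_one, T.P_two, T.P_three, Tab.A, matOf_apply,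
      colX, coeff_append, Matrix.one_apply]
    ring
  simp only [e, add_mul, Finset.sum_add_distrib]
  congr 1
  simp [Matrix.one_apply]

/-- All basis vectors are in the span. -/
theorem span_mem {sp : List SpanStep} {O B : List ℕ}
    (hO : ∀ b ∈ O, evV D K [(b, 1)] ∈ topSpan G σ F) (h : spanOK T sp O = some B) :
    ∀ b ∈ B, evV D K [(b, 1)] ∈ topSpan G σ F := by
  induction sp generalizing O with
  | nil =>
    simp only [spanOK, Option.some.injEq] at h
    exact h ▸ hO
  | cons stp sp ih =>
    cases stp with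
    | refl i s =>
      simp only [spanOK] at h
      split_ifs at h with hc
      simp only [Bool.and_eq_true, Nat.blt_eq, memB_iff] at hc
      obtain ⟨⟨hi, hs⟩, hsl⟩ := hc
      refine ih (fun b hb => ?_) h
      rcases List.mem_cons.mp hb with rfl | hb
      · have h1 := topSpan_stable G σ F (ns_mem_rat G σ i) (hO s hs)
        have e : (G.full.ns K i : Matrix D.Idx D.Idx K) *ᵥ evV D K [(s, 1)] =
            (T.sgn i s : K) • evV D K [(T.reflT i s, 1)] := by
          funext x
          rw [Matrix.mulVec, dotProduct, Finset.sum_eq_single (Sum.inr ⟨s, hsl⟩)]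
          · rw [Full.ns, ← Units.val_one, G.full.coe_nr_simple hi, G.full.NX_root hi]
            by_cases hx : code x = T.reflT i s
            · simp [evV, coeff_cons, coeff_nil, hx, code_inr]
            · simp [evV, coeff_cons, coeff_nil, hx, Ne.symm hx, code_inr]
          · intro y _ hy
            have : s ≠ code y := fun e => hy (code_injective (by rw [← e]; rfl))
            simp [evV, coeff_cons, coeff_nil, this]
          · simp
        rw [e] at h1
        refine (Submodule.smul_mem_iff _ ?_).mp h1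
        rcases (G.full.reflT_spec hi hsl).2.2.2.2.2.2.1 with h' | h' <;> simp [h']
      · exact hO b hb
    | word rs b new =>
      simp only [spanOK] at h
      split_ifs at h with hc
      simp only [Bool.and_eq_true, Nat.blt_eq, memB_iff, List.all_eq_true, Bool.or_eq_true,
        Nat.beq_eq, decide_eq_true_eq] at hc
      obtain ⟨⟨⟨⟨hnew, hb⟩, hval⟩, hall⟩, hone⟩ := hc
      refine ih (fun k hk => ?_) h
      rcases List.mem_cons.mp hk with rfl | hk
      swap
      · exact hO k hk
      have hw : ∀ rs, wordValid T rs b = true →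
          evV D K (wordVec T rs b) ∈ topSpan G σ F ∧ ∀ p ∈ wordVec T rs b, p.1 < dim D := by
        intro rs
        induction rs with
        | nil =>
          intro hv
          simp only [wordValid, Nat.blt_eq] at hv
          exact ⟨hO b hb, by simp [wordVec, hv]⟩
        | cons r rs ihr =>
          intro hv
          simp only [wordValid, Bool.and_eq_true, Nat.blt_eq, List.all_eq_true] at hv
          obtain ⟨⟨hr, hv⟩, hcodes⟩ := hv
          obtain ⟨h1, h2⟩ := ihr hv
          refine ⟨?_, hcodes⟩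
          have h3 := topSpan_stable G σ F (x_mem_rat G σ r (map_one σ)) h1
          rw [x_one_evV G F hr _ h2] at h3
          exact (add_mem_cancel_left h1).mp h3
      obtain ⟨x0, hx0⟩ := exists_code hnew
      obtain ⟨hmem, -⟩ := hw rs hval
      set w := wordVec T rs b
      have hsum : evV D K w = ∑ y : D.Idx, (coeff w (code y) : K) • evV D K [(code y, 1)] := by
        funext x
        rw [Finset.sum_apply, Finset.sum_eq_single x]
        · simp [evV, coeff_cons, coeff_nil]
        · intro y _ hy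
          have : code y ≠ code x := fun e => hy (code_injective e)
          simp [evV, coeff_cons, coeff_nil, this]
        · simp
      rw [hsum, ← Finset.add_sum_erase _ _ (Finset.mem_univ x0)] at hmem
      have hrest : ∑ y ∈ Finset.univ.erase x0,
          (coeff w (code y) : K) • evV D K [(code y, 1)] ∈ topSpan G σ F := by
        refine Submodule.sum_mem _ fun y hy => ?_
        by_cases h0 : coeff w (code y) = 0
        · simp [h0]
        · obtain ⟨p, hp, hpy⟩ := exists_mem_of_coeff_ne_zero h0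
          rcases hall p hp with (e | e) | e
          · exact absurd (code_injective (hpy.symm.trans (e.trans hx0.symm)))
              (Finset.ne_of_mem_erase hy)
          · exact Submodule.smul_mem _ _ (hO _ (hpy ▸ e))
          · exact absurd (hpy ▸ e) h0
      rw [hx0] at hmem
      refine (Submodule.smul_mem_iff _ ?_).mp ((add_mem_cancel_right hrest).mp hmem)
      rcases Int.natAbs_eq_iff.mp hone with e | e <;> simp [e]

/-- Rows of the lowest root vector are determined by the coefficients of rational translates. -/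
theorem row_eq {A B : GL D.Idx K} (h : ∀ g ∈ rat G σ, F.cf (A * g) = F.cf (B * g)) (y : D.Idx) :
    (A : Matrix D.Idx D.Idx K) F.loI y = (B : Matrix D.Idx D.Idx K) F.loI y := by
  obtain ⟨st, O, hO, -, -, sp, B', hsp, hB'⟩ := F.orbit
  have hO' : ∀ b ∈ O, evV D K [(b, 1)] ∈ topSpan G σ F := by
    intro b hb
    obtain ⟨hlt, L, hL⟩ := orbit_word G F hO (base_word G F) b hb
    obtain ⟨η, hη, hc, -⟩ := nw_col G (K := K) L ⟨top D, F.top_lt⟩
    rw [hL] at hc
    have h1 : (G.full.nw K L : Matrix D.Idx D.Idx K) *ᵥ Pi.single F.hiI 1 ∈ topSpan G σ F :=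
      Submodule.subset_span ⟨_, nw_mem_rat G σ L, rfl⟩
    have e : (G.full.nw K L : Matrix D.Idx D.Idx K) *ᵥ Pi.single F.hiI 1 =
        η • evV D K [(b, 1)] := by
      funext x
      rw [Matrix.mulVec_single_one, Matrix.col_apply, show F.hiI = Sum.inr ⟨top D, F.top_lt⟩ from
        rfl, hc]
      by_cases hx : x = Sum.inr ⟨b, hlt⟩
      · simp [evV, coeff_cons, coeff_nil, hx, code_inr]
      · have : b ≠ code x := fun e => hx (code_injective (by rw [← e]; rfl))
        simp [evV, coeff_cons, coeff_nil, hx, this]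
    rw [e] at h1
    exact (Submodule.smul_mem_iff _ (left_ne_zero_of_mul_eq_one hη)).mp h1
  have hy := span_mem G σ F hO' hsp (code y) (hB' _ (code_lt y))
  have key : ∀ v ∈ topSpan G σ F, ((A : Matrix D.Idx D.Idx K) *ᵥ v) F.loI =
      ((B : Matrix D.Idx D.Idx K) *ᵥ v) F.loI := by
    intro v hv
    induction hv using Submodule.span_induction with
    | mem v hv =>
      obtain ⟨g, hg, rfl⟩ := hv
      have := h g hg
      simp only [Frame.cf, Units.val_mul] at this
      show ((A : Matrix D.Idx D.Idx K) *ᵥ ((g : Matrix D.Idx D.Idx K) *ᵥ Pi.single F.hiI 1))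
          F.loI = ((B : Matrix D.Idx D.Idx K) *ᵥ
            ((g : Matrix D.Idx D.Idx K) *ᵥ Pi.single F.hiI 1)) F.loI
      rw [Matrix.mulVec_mulVec, Matrix.mulVec_mulVec, Matrix.mulVec_single_one,
        Matrix.mulVec_single_one]
      exact this
    | zero => simp
    | add a b _ _ ha hb => simp [Matrix.mulVec_add, ha, hb]
    | smul c a _ ha => simp [Matrix.mulVec_smul, ha]
  have := key _ hy
  have e : evV D K [(code y, 1)] = Pi.single y 1 := by
    funext x
    by_cases hx : x = y
    · simp [evV, coeff_cons, coeff_nil, hx]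
    · have : code y ≠ code x := fun e => hx (code_injective e).symm
      simp [evV, coeff_cons, coeff_nil, hx, this]
  simpa [e, Matrix.mulVec_single_one] using this

/-- An element whose coefficients of lowest weight are rational on all rational translates is
rational. -/
theorem rational {h : GL D.Idx K} (hh : h ∈ D.group K)
    (hf : ∀ g₁ ∈ rat G σ, ∀ g₂ ∈ rat G σ, σ (F.cf (g₁ * h * g₂)) = F.cf (g₁ * h * g₂)) :
    glMap D σ h = h := by
  by_cases hid : ∀ t, σ t = t
  · exact Units.ext (Matrix.ext fun x y => hid _)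
  obtain ⟨t₀, ht₀⟩ := not_forall.mp hid
  set k := h * (glMap D σ h)⁻¹ with hk
  let M : Set (GL D.Idx K) := {k | k ∈ D.group K ∧ ∀ g ∈ rat G σ, ∀ y,
    ((g * k : GL D.Idx K) : Matrix D.Idx D.Idx K) F.loI y =
      (g : Matrix D.Idx D.Idx K) F.loI y}
  have hrow : ∀ (g : GL D.Idx K), g ∈ rat G σ → ∀ y,
      ((g * h : GL D.Idx K) : Matrix D.Idx D.Idx K) F.loI y =
        ((g * glMap D σ h : GL D.Idx K) : Matrix D.Idx D.Idx K) F.loI y := fun g hg y => by
    refine row_eq G σ F (fun g₂ hg₂ => ?_) y
    rw [← hf g hg g₂ hg₂]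
    show σ (F.cf (g * h * g₂)) = F.cf (g * glMap D σ h * g₂)
    conv_rhs => rw [← glMap_rat G σ hg, ← glMap_rat G σ hg₂, ← map_mul, ← map_mul]
    rfl
  have hkM : k ∈ M := by
    refine ⟨mul_mem hh (inv_mem (G.glMap_group σ hh)), fun g hg y => ?_⟩
    rw [hk, ← mul_assoc, Units.val_mul, Matrix.mul_apply]
    simp only [hrow g hg]
    rw [← Matrix.mul_apply, ← Units.val_mul, mul_inv_cancel_right]
  have hconj : ∀ k ∈ M, ∀ a ∈ rat G σ, a⁻¹ * k * a ∈ M := by
    intro k hk a ha
    refine ⟨mul_mem (mul_mem (inv_mem (rat_le_group G σ ha)) hk.1) (rat_le_group G σ ha),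
      fun g hg y => ?_⟩
    rw [show g * (a⁻¹ * k * a) = g * a⁻¹ * k * a by group, Units.val_mul, Matrix.mul_apply]
    simp only [hk.2 _ (mul_mem hg (inv_mem ha))]
    rw [← Matrix.mul_apply, ← Units.val_mul, inv_mul_cancel_right]
  -- the elements of `M` centralise the highest root group
  obtain ⟨st, O, hO, hneg, hcov, -⟩ := F.orbit
  have htop : ∀ k ∈ M, ∀ t, Commute k (G.full.x (top D) t) := by
    intro k hk t
    obtain ⟨v, hv, L, e, he, hcol, hx⟩ := top_form G F hk.1
    obtain ⟨hlt, L₀, hL₀⟩ := orbit_word G F hO (base_word G F) _ hneg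
    set w := G.full.pw L ⟨top D, F.top_lt⟩ with hw
    set L' := L₀ ++ L.reverse
    have hL' : G.full.pw L' w = ⟨negR D (top D), hlt⟩ := by
      rw [G.pw_append, Equiv.Perm.mul_apply, hw, pw_reverse G, hL₀]
    obtain ⟨η, hη, hc, -⟩ := nw_col G (K := K) L' w
    have hrow' : ∀ y, y ≠ Sum.inr w →
        (G.full.nw K L' : Matrix D.Idx D.Idx K) F.loI y = 0 := by
      rintro (j | s) hy
      · exact (G.mono_of_mem (G.nw_mem_monomial L')).2 j _
      · obtain ⟨η', -, hc', -⟩ := nw_col G (K := K) L' s
        rw [hc', if_neg]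
        intro e
        refine hy (congrArg Sum.inr ((G.full.pw L').injective ?_))
        rw [hL']
        exact (Sum.inr_injective e).symm
    have hwlo : (G.full.nw K L' : Matrix D.Idx D.Idx K) F.loI (Sum.inr w) = η := by
      rw [hc, hL']; exact if_pos rfl
    have h1 : ((G.full.nw K L' * k : GL D.Idx K) : Matrix D.Idx D.Idx K) F.loI F.hiI = η * e := by
      rw [Units.val_mul, Matrix.mul_apply, Finset.sum_eq_single (Sum.inr w)]
      · rw [hwlo, hcol, G.grUni_pos hv _ _ le_rfl, Matrix.one_apply_eq, one_mul]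
      · intro y _ hy; rw [hrow' y hy, zero_mul]
      · simp
    rw [hk.2 _ (nw_mem_rat G σ L')] at h1
    have hwt : w = ⟨top D, F.top_lt⟩ := by
      by_contra hne
      rw [hrow' F.hiI (fun e' => hne (Sum.inr_injective e').symm)] at h1
      exact mul_ne_zero (left_ne_zero_of_mul_eq_one hη) he h1.symm
    rw [show F.hiI = Sum.inr w by rw [hwt]; rfl, hwlo] at h1
    have he1 : e = 1 :=
      mul_left_cancel₀ (left_ne_zero_of_mul_eq_one hη) (by rw [← h1, mul_one])
    have h2 := hx t
    rw [hwt, he1, one_mul] at h2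
    dsimp only at h2
    rw [(top_comm G F (u := v) (G.posUnipotent_eq (F := K) ▸ hv) t).eq,
      mul_inv_cancel_right] at h2
    exact mul_inv_eq_iff_eq_mul.mp h2
  -- hence all root groups of the orbit
  have horb : ∀ k ∈ M, ∀ s ∈ O, ∀ t, Commute k (G.full.x s t) := by
    intro k hk s hs t
    obtain ⟨g, hg, η, hη, hx⟩ := orbit_conj G σ F hO hs
    have h1 := htop _ (hconj k hk g hg) (η * t)
    have h2 := hx (η * t)
    rw [← mul_assoc, hη, one_mul] at h2
    rw [← h2]
    have h3 : Commute (g * (g⁻¹ * k * g) * g⁻¹) (g * G.full.x (top D) (η * t) * g⁻¹) :=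
      h1.conj g
    rwa [show g * (g⁻¹ * k * g) * g⁻¹ = k by group] at h3
  have hall : ∀ s < D.nroots, ∀ t, Commute k (G.full.x s t) := by
    intro s hs
    rcases hcov s hs with h | ⟨l, hl, hp, hln⟩
    · exact horb k hkM s h
    obtain ⟨hlr, -⟩ := orbit_word G F hO (base_word G F) l hl
    have hgen : ∀ u : K, u ≠ -1 → Commute k (G.full.x s u) := by
      intro u hu
      set n := T.pairT l s with hn
      have hu' : u + 1 ≠ 0 := fun e => hu (eq_neg_of_add_eq_zero_left e)
      set t := (u + 1) ^ n with ht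
      have ht0 : t ≠ 0 := zpow_ne_zero _ hu'
      have hhr : ∀ k ∈ M, Commute k (G.full.hr l t) := fun k hk => by
        simp only [Full.hr, Full.nr]
        exact (((horb k hk l hl _).mul_right (horb k hk _ hln _)).mul_right
          (horb k hk l hl _)).mul_right
          (((horb k hk l hl _).mul_right (horb k hk _ hln _)).mul_right (horb k hk l hl _))
      set a := G.full.x s (1 : K)
      have ha : a ∈ rat G σ := x_mem_rat G σ s (map_one σ)
      have h1 : Commute (a⁻¹ * k * a) (G.full.hr l t) := hhr _ (hconj k hkM a ha)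
      have h2 : Commute k (a * (G.full.hr l t)⁻¹ * a⁻¹) := by
        have h3 : Commute (a * (a⁻¹ * k * a) * a⁻¹) (a * (G.full.hr l t)⁻¹ * a⁻¹) :=
          h1.inv_right.conj a
        rwa [show a * (a⁻¹ * k * a) * a⁻¹ = k by group] at h3
      have h4 := (hhr k hkM).mul_right h2
      have e : G.full.hr l t * (a * (G.full.hr l t)⁻¹ * a⁻¹) = G.full.x s u := by
        rw [show G.full.hr l t * (a * (G.full.hr l t)⁻¹ * a⁻¹) =
          G.full.hr l t * a * (G.full.hr l t)⁻¹ * a⁻¹ by group, G.full.hr_eq_hT hlr ht0,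
          G.full.hT_conj hs, G.full.x_inv, G.full.x_add]
        congr 1
        have : T.chi (F := K) s (fun i => Units.mk0 t ht0 ^ T.cor l i) =
            Units.mk0 t ht0 ^ n := by
          rw [hn, pairT_eq_sum, zpow_sum_eq_prod]
          simp only [chi, MonoidHom.coe_mk, OneHom.coe_mk, ← _root_.zpow_mul]
        rw [this, Units.val_zpow_eq_zpow_val, Units.val_mk0, ht, ← _root_.zpow_mul,
          show n * n = 1 by rcases Int.natAbs_eq_iff.mp hp with e | e <;> simp [e], zpow_one]
        ring
      rwa [e] at h4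
    intro u
    by_cases hu : u = -1
    · subst hu
      have h0 : t₀ ≠ 0 := fun e => ht₀ (by rw [e, map_zero])
      have h1 : t₀ ≠ -1 := fun e => ht₀ (by rw [e, map_neg, map_one])
      have h := (hgen t₀ h1).mul_right
        (hgen (-1 - t₀) fun e => h0 (by linear_combination -e))
      rwa [G.full.x_add, add_sub_cancel] at h
    · exact hgen u hu
  -- the centre is trivial
  have hc : D.group K ≤ Subgroup.centralizer {k} := by
    refine G.group_le_iff.mpr fun r hr t => ?_
    rw [Subgroup.mem_centralizer_singleton_iff]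
    exact (hall r hr t).eq.symm
  have h1 : (⟨k, hkM.1⟩ : D.group K) ∈ Subgroup.center (D.group K) :=
    Subgroup.mem_center_iff.mpr fun g => Subtype.ext (Subgroup.mem_centralizer_singleton_iff.mp
      (hc g.2))
  rw [G.center_group, Subgroup.mem_bot] at h1
  exact (mul_inv_eq_one.mp (congrArg Subtype.val h1)).symm

/-- Generation from the highest root group. -/
theorem gen {P : Subgroup (GL D.Idx K)} (hP : rat G σ ≤ P) (A : Set K)
    (hinv : ∀ t ∈ A, t⁻¹ ∈ A) (hA : ∀ t ∈ A, G.full.x (top D) t ∈ P) :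
    ∀ s < D.nroots, ∀ t ∈ A, G.full.x s t ∈ P := by
  obtain ⟨st, O, hO, -, hcov, -⟩ := F.orbit
  have horb : ∀ s ∈ O, ∀ t ∈ A, G.full.x s t ∈ P ∧ G.full.x s (-t) ∈ P := by
    intro s hs t ht
    obtain ⟨g, hg, η, hη, hx⟩ := orbit_conj G σ F hO hs
    have h1 : G.full.x s (η * t) ∈ P := by
      rw [← hx]
      exact mul_mem (mul_mem (hP hg) (hA t ht)) (inv_mem (hP hg))
    have h2 := inv_mem h1
    rw [G.full.x_inv] at h2
    rcases mul_self_eq_one_iff.mp hη with e | e <;> subst e
    · exact ⟨by simpa using h1, by simpa using h2⟩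
    · exact ⟨by simpa using h2, by simpa using h1⟩
  intro s hs t ht
  by_cases ht0 : t = 0
  · rw [ht0, G.full.x_zero]; exact one_mem _
  rcases hcov s hs with h | ⟨l, hl, hp, hln⟩
  · exact (horb s h t ht).1
  obtain ⟨hlr, -⟩ := orbit_word G F hO (base_word G F) l hl
  set n := T.pairT l s with hn
  have hn' : n = 1 ∨ n = -1 := by
    rcases Int.natAbs_eq_iff.mp hp with e | e <;> simp [e]
  have hmem : ∀ u ∈ A, u ≠ 0 → G.full.x s (u ^ n) ∈ P := by
    intro u hu hu0
    have hh : G.full.hr l u ∈ P := by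
      simp only [Full.hr, Full.nr, inv_neg, inv_one, neg_neg]
      refine mul_mem (mul_mem (mul_mem (horb l hl u hu).1 (horb _ hln _ (hinv u hu)).2)
        (horb l hl u hu).1) ?_
      exact mul_mem (mul_mem (hP (x_mem_rat G σ _ (by simp))) (hP (x_mem_rat G σ _ (by simp))))
        (hP (x_mem_rat G σ _ (by simp)))
    have h := mul_mem (mul_mem hh (hP (x_mem_rat G σ s (map_one σ)))) (inv_mem hh)
    rw [G.full.hr_eq_hT hlr hu0, G.full.hT_conj hs] at h
    have : T.chi (F := K) s (fun i => Units.mk0 u hu0 ^ T.cor l i) = Units.mk0 u hu0 ^ n := by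
      rw [hn, pairT_eq_sum, zpow_sum_eq_prod]
      simp only [chi, MonoidHom.coe_mk, OneHom.coe_mk, ← _root_.zpow_mul]
    rwa [this, Units.val_zpow_eq_zpow_val, Units.val_mk0, mul_one] at h
  rcases hn' with e | e
  · simpa [e] using hmem t ht ht0
  · simpa [e] using hmem t⁻¹ (hinv t ht) (inv_ne_zero ht0)

/-- Conjugation by the radical is linear on its root groups. -/
theorem lin {u : GL D.Idx K} (hu : u ∈ G.US K (qs T)) {a : ℕ} (ha : a ∈ qs T) :
    ∃ β : K, ∀ t, u * G.full.x a t * u⁻¹ = G.full.x a t * G.full.x (top D) (β * t) := by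
  have hap := F.closedQ.1 a ha
  induction hu using Subgroup.closure_induction with
  | mem u hu =>
    obtain ⟨s, hs, v, rfl⟩ := hu
    have hsp := F.closedQ.1 s hs
    rcases eq_or_ne s a with rfl | hne
    · exact ⟨0, fun t => by
        rw [G.full.x_add, add_comm, ← G.full.x_add, mul_inv_cancel_right, zero_mul,
          G.full.x_zero, mul_one]⟩
    refine ⟨((T.commT a s).map fun c => -(c.2.1 : K) * v).sum, fun t => ?_⟩
    have h := G.full.x_comm hap.1 hsp.1 hne ((G.ord_spec hap).2 s hsp) t v
    rw [G.full.cert.commWord_eq hap.1 hsp.1] at h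
    have e : ∀ l : List (ℕ × ℤ × ℕ × ℕ),
        (∀ c ∈ l, c.1 = top D ∧ c.2.2.1 = 1 ∧ c.2.2.2 = 1) →
        ((rhsWord l t v).map fun p => G.full.x p.1 p.2).prod =
          G.full.x (top D) ((l.map fun c => -(c.2.1 : K) * v).sum * t) := by
      intro l
      induction l with
      | nil => intro _; simp [rhsWord, G.full.x_zero]
      | cons c l ih =>
        intro hl
        obtain ⟨e1, e2, e3⟩ := hl c List.mem_cons_self
        have ih' := ih fun d hd => hl d (List.mem_cons_of_mem _ hd)
        simp only [rhsWord, List.map_map] at ih'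
        simp only [rhsWord, List.map_cons, List.prod_cons, List.map_map, ih', List.sum_cons,
          e1, e2, e3, G.full.x_add]
        congr 1
        ring
    rw [e _ (F.commQ a ha s hs)] at h
    rw [h, show G.full.x a t * G.full.x s v *
        G.full.x (top D) ((List.map (fun c => -(c.2.1 : K) * v) (T.commT a s)).sum * t) *
        (G.full.x s v)⁻¹ = G.full.x a t * (G.full.x s v *
        G.full.x (top D) ((List.map (fun c => -(c.2.1 : K) * v) (T.commT a s)).sum * t) *
        (G.full.x s v)⁻¹) by group,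
      (top_comm G F (G.x_mem_US hsp v) _).eq, mul_inv_cancel_right]
  | one => exact ⟨0, fun t => by simp [G.full.x_zero]⟩
  | mul p q hp _ ih1 ih2 =>
    obtain ⟨b, hb⟩ := ih1
    obtain ⟨c, hc⟩ := ih2
    refine ⟨b + c, fun t => ?_⟩
    rw [show p * q * G.full.x a t * (p * q)⁻¹ = p * (q * G.full.x a t * q⁻¹) * p⁻¹ by group, hc,
      show p * (G.full.x a t * G.full.x (top D) (c * t)) * p⁻¹ = (p * G.full.x a t * p⁻¹) *
        (p * G.full.x (top D) (c * t) * p⁻¹) by group, hb,
      (top_comm G F (G.US_mono (fun r hr => F.closedQ.1 r hr) hp) _).eq, mul_inv_cancel_right,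
      mul_assoc, G.full.x_add, add_mul]
  | inv p hp ih =>
    obtain ⟨b, hb⟩ := ih
    refine ⟨-b, fun t => ?_⟩
    have hz := top_comm G F (G.US_mono (fun r hr => F.closedQ.1 r hr) hp) (b * t)
    rw [neg_mul, ← G.full.x_inv, eq_mul_inv_iff_mul_eq]
    have h' : p * G.full.x a t = G.full.x a t * G.full.x (top D) (b * t) * p := by
      rw [← hb t]; group
    rw [show p⁻¹ * G.full.x a t * p⁻¹⁻¹ * G.full.x (top D) (b * t) =
      p⁻¹ * (G.full.x a t * (p * G.full.x (top D) (b * t))) by group, hz.eq,
      ← mul_assoc (G.full.x a t), ← h', inv_mul_cancel_left]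

end

end SubfieldMax

end CfsgLib.Chev
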