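import Cfsg.Agent.Chev.Subfield.ThreeData
import Cfsg.Agent.Chev.Subfield.B2
import Mathlib.RingTheory.Jacobson.Ring
import Mathlib.FieldTheory.Finite.GaloisField

/-!
Groups between the points over a finite field and the points over a larger field.
-/

set_option autoImplicit false
set_option linter.unusedSectionVars false
set_option linter.style.haveILetI false

namespace CfsgLib.Chev

open Cfsg.Lie Matrix
open scoped MatrixGroups

namespace SubfieldMax

open Tab

/-- The two facts about the highest root parameters which are proved type by type. -/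
structure SubOK.{u} {D : ChevalleyDatum} {T : Tab D} (G : T.Good) : Prop where
  ring : ∀ (K : Type u) [Field K] [Finite K] (p : ℕ) [Fact p.Prime] [CharP K p] (σ : K →+* K)
    (P : Subgroup (GL D.Idx K)), rat G σ ≤ P → ∀ t u : K, G.full.x (top D) t ∈ P →
      G.full.x (top D) u ∈ P → G.full.x (top D) (t * u) ∈ P
  rational : ∀ (K : Type u) [Field K] [Finite K] (p : ℕ) [Fact p.Prime] [CharP K p] (σ : K →+* K)
    (P : Subgroup (GL D.Idx K)), rat G σ ≤ P → (∀ t, G.full.x (top D) t ∈ P → σ t = t) →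
      ∀ q ∈ G.US K (qs T), ∀ c : K,
        q * G.full.x (negR D (top D)) c * q⁻¹ ∈ P → σ c = c

theorem subOK_of_tri.{u} {D : ChevalleyDatum} {T : Tab D} (G : T.Good) (F : Frame T) (R : Tri T) :
    SubOK.{u} G :=
  ⟨fun _ _ _ _ _ _ σ P hP _ _ ht hu => tri_ring G σ F P R hP ht hu,
    fun _ _ _ p _ _ σ P hP hA _ hq _ hc => tri_rational G σ F P p R hP hA hq hc⟩

theorem subOK_B2.{u} : SubOK.{u} good_B2 :=
  ⟨fun _ _ _ p _ _ σ P hP _ _ ht hu => b2_ring σ P hP p ht hu,
    fun _ _ _ p _ _ σ P hP hA _ hq _ hc => b2_rational σ P hP hA p hq hc⟩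

theorem exists_subOK.{u} {D : ChevalleyDatum}
    (hD : D ∈ [chevG2, chevB2, chevD4, chevF4, chevE6, chevE7, chevE8]) :
    ∃ (T : Tab D) (G : T.Good), Frame T ∧ SubOK.{u} G := by
  simp only [List.mem_cons, List.not_mem_nil, or_false] at hD
  rcases hD with rfl | rfl | rfl | rfl | rfl | rfl | rfl
  exacts [⟨_, good_G2, frame_of_chk frameG2, subOK_of_tri good_G2 (frame_of_chk frameG2) tri_G2⟩,
    ⟨_, good_B2, frame_B2, subOK_B2⟩,
    ⟨_, good_D4, frame_of_chk frameD4, subOK_of_tri good_D4 (frame_of_chk frameD4) tri_D4⟩,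
    ⟨_, good_F4, frame_of_chk frameF4, subOK_of_tri good_F4 (frame_of_chk frameF4) tri_F4⟩,
    ⟨_, good_E6, frame_of_chk frameE6, subOK_of_tri good_E6 (frame_of_chk frameE6) tri_E6⟩,
    ⟨_, good_E7, frame_of_chk frameE7, subOK_of_tri good_E7 (frame_of_chk frameE7) tri_E7⟩,
    ⟨_, good_E8, frame_of_chk frameE8, subOK_of_tri good_E8 (frame_of_chk frameE8) tri_E8⟩]

section Finite

variable {K : Type*} [Field K]

/-- There are at most `Q` roots of `x ^ Q = x`. -/
theorem finite_fixed {Q : ℕ} (hQ : 1 < Q) :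
    {x : K | x ^ Q = x}.Finite ∧ {x : K | x ^ Q = x}.ncard ≤ Q := by
  classical
  have hne := FiniteField.X_pow_card_sub_X_ne_zero K hQ
  have hsub : {x : K | x ^ Q = x} ⊆
      (((Polynomial.X : Polynomial K) ^ Q - Polynomial.X).roots.toFinset : Set K) := by
    intro x hx
    simp only [Finset.mem_coe, Multiset.mem_toFinset, Polynomial.mem_roots hne]
    simpa [Polynomial.IsRoot, sub_eq_zero] using hx
  refine ⟨(Finset.finite_toSet _).subset hsub, ?_⟩
  refine le_trans (Set.ncard_le_ncard hsub (Finset.finite_toSet _)) ?_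
  rw [Set.ncard_coe_finset]
  refine le_trans (Multiset.toFinset_card_le _) ((Polynomial.card_roots' _).trans ?_)
  rw [FiniteField.X_pow_card_sub_X_natDegree_eq K hQ]

variable [Finite K]

/-- The fixed points of a power map. -/
theorem card_fixed_pow {q r : ℕ} (hq : 1 < q) (hK : Nat.card K = q ^ r) :
    {x : K | x ^ q = x}.ncard = q := by
  classical
  let e : {x : K | x ^ q = x} ≃ Option ↥(powMonoidHom (q - 1) : Kˣ →* Kˣ).ker :=
    { toFun := fun x => if h : x.1 = 0 then none else some ⟨Units.mk0 x.1 h, by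
        refine MonoidHom.mem_ker.2 (Units.ext (mul_left_cancel₀ h ?_))
        rw [powMonoidHom_apply, Units.val_pow_eq_pow_val, Units.val_mk0, Units.val_one, mul_one,
          ← pow_succ', Nat.sub_add_cancel (by omega)]
        exact x.2⟩
      invFun := fun o => match o with
        | none => ⟨0, zero_pow (by omega)⟩
        | some u => ⟨u.1, by
            have h := congrArg Units.val (MonoidHom.mem_ker.1 u.2)
            rw [powMonoidHom_apply, Units.val_pow_eq_pow_val, Units.val_one] at h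
            calc ((u.1 : Kˣ) : K) ^ q = ((u.1 : Kˣ) : K) ^ (q - 1) * (u.1 : Kˣ) := by
                  rw [← pow_succ, Nat.sub_add_cancel (by omega : 1 ≤ q)]
              _ = _ := by rw [h, one_mul]⟩
      left_inv := fun x => by
        by_cases h : x.1 = 0
        · simp [h, Subtype.ext_iff]
        · simp [h]
      right_inv := fun o => by
        rcases o with _ | u
        · simp
        · simp [Subtype.ext_iff, Units.ext_iff] }
  rw [← Nat.card_coe_set_eq, Nat.card_congr e, Finite.card_option, IsCyclic.card_powMonoidHom_ker,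
    Nat.card_units, hK, Nat.gcd_eq_right (by simpa using Nat.sub_dvd_pow_sub_pow q 1 r)]
  omega

variable {D : ChevalleyDatum} {T : Tab D}

universe u

/-- The statement over a finite field: an overgroup of the points over the field of `q` elements
determines a field of `q ^ r` elements. -/
theorem main_finite {K : Type u} [Field K] [Finite K] (G : T.Good) (F : Frame T)
    (W : SubOK.{u} G) (p : ℕ) [Fact p.Prime] [CharP K p] {a : ℕ} (ha : 1 ≤ a)
    (hq : {x : K | x ^ (p ^ a) = x}.ncard = p ^ a) (H : Subgroup (GL D.Idx K))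
    (hrat : ∀ s, ∀ t : K, t ^ (p ^ a) = t → G.full.x s t ∈ H) (hHG : H ≤ D.group K) :
    ∃ r, 1 ≤ r ∧ r ≤ Nat.card H ∧ {x : K | x ^ ((p ^ a) ^ r) = x}.ncard = (p ^ a) ^ r ∧
      (∃ d, Nat.card K = ((p ^ a) ^ r) ^ d) ∧
      (∀ s, ∀ t : K, t ^ ((p ^ a) ^ r) = t → G.full.x s t ∈ H) ∧
      ∀ g ∈ H, ∀ i j : D.Idx, ((g : Matrix D.Idx D.Idx K) i j) ^ ((p ^ a) ^ r) =
        (g : Matrix D.Idx D.Idx K) i j := by
  classical
  haveI := Fintype.ofFinite K
  have hp := (Fact.out : p.Prime).two_le
  have hq1 : 1 < p ^ a := Nat.one_lt_pow (by omega) (by omega)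
  set σ := iterateFrobenius K p a
  have hσ : ∀ x : K, σ x = x ^ (p ^ a) := fun x => iterateFrobenius_def p a x
  have hσrat : rat G σ ≤ H := by
    rw [rat, Subgroup.closure_le]
    rintro _ ⟨s, -, t, ht, rfl⟩
    exact hrat s t (by rw [← hσ]; exact ht)
  let A₀ : Subring K :=
    { carrier := {t | G.full.x (top D) t ∈ H}
      one_mem' := hrat _ 1 (one_pow _)
      mul_mem' := fun {t u} ht hu => W.ring K p σ H hσrat t u ht hu
      zero_mem' := hrat _ 0 (zero_pow (by omega))
      add_mem' := fun {t u} ht hu => by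
        show G.full.x _ (t + u) ∈ H
        rw [← G.full.x_add]; exact mul_mem ht hu
      neg_mem' := fun {t} ht => by
        show G.full.x _ (-t) ∈ H
        rw [← G.full.x_inv]; exact inv_mem ht }
  let A : Subfield K :=
    { A₀ with
      inv_mem' := fun x hx => by
        by_cases h0 : x = 0
        · rw [h0, _root_.inv_zero]; exact zero_mem A₀
        · obtain ⟨n, hn, hn'⟩ : ∃ n, 0 < n ∧ (Units.mk0 x h0) ^ n = 1 :=
            ⟨_, orderOf_pos _, pow_orderOf_eq_one _⟩
          have e : x ^ n = 1 := by simpa [Units.ext_iff] using hn'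
          rw [show x⁻¹ = x ^ (n - 1) by
            refine inv_eq_of_mul_eq_one_right ?_
            rw [← pow_succ', Nat.sub_add_cancel hn, e]]
          exact pow_mem (show x ∈ A₀ from hx) _ }
  let F₀ : Subfield K := σ.eqLocusField (RingHom.id K)
  have hF₀ : ∀ x, x ∈ F₀ ↔ x ^ (p ^ a) = x := fun x => by rw [← hσ]; rfl
  have hcard₀ : Nat.card F₀ = p ^ a := by
    rw [← hq, ← Nat.card_coe_set_eq]
    exact Nat.card_congr (Equiv.subtypeEquivRight hF₀)
  have hle : F₀ ≤ A := fun x hx => hrat _ x ((hF₀ x).mp hx)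
  letI : Algebra F₀ A := (Subfield.inclusion hle).toAlgebra
  set r := Module.finrank F₀ A with hr
  have hcardA : Nat.card A = (p ^ a) ^ r := by
    rw [hr, ← hcard₀]; exact Module.natCard_eq_pow_finrank
  have hA2 : 1 < Nat.card A := Finite.one_lt_card
  have hr1 : 1 ≤ r := by
    rcases Nat.eq_zero_or_pos r with e | e
    · rw [hcardA, e, pow_zero] at hA2; omega
    · exact e
  set Q := (p ^ a) ^ r with hQ
  have hQ1 : 1 < Q := hcardA ▸ hA2
  have hsub : (A : Set K) ⊆ {x : K | x ^ Q = x} := fun x hx => by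
    have h := FiniteField.pow_card (⟨x, hx⟩ : A)
    rw [← Nat.card_eq_fintype_card, hcardA] at h
    exact congrArg Subtype.val h
  have hAeq : (A : Set K) = {x : K | x ^ Q = x} :=
    Set.eq_of_subset_of_ncard_le hsub (by
      rw [show (A : Set K).ncard = Q from hcardA ▸ (Nat.card_coe_set_eq _).symm]
      exact (finite_fixed hQ1).2) (finite_fixed hQ1).1
  set τ := iterateFrobenius K p (a * r)
  have hτ : ∀ x : K, τ x = x ^ Q := fun x => by
    rw [iterateFrobenius_def p (a * r) x, hQ, pow_mul]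
  have hmem : ∀ t, G.full.x (top D) t ∈ H ↔ t ^ Q = t := fun t => Set.ext_iff.mp hAeq t
  have hgen : ∀ s, ∀ t : K, t ^ Q = t → G.full.x s t ∈ H := by
    intro s t ht
    by_cases hs : s < D.nroots
    · exact gen G σ F hσrat (A : Set K) (fun x hx => inv_mem hx) (fun x hx => hx) s hs t
        (hAeq.symm.subset ht)
    · simp [Full.x, hs, one_mem]
  have hτrat : rat G τ ≤ H := by
    rw [rat, Subgroup.closure_le]
    rintro _ ⟨s, -, t, ht, rfl⟩
    exact hgen s t (by rw [← hτ]; exact ht)
  refine ⟨r, hr1, ?_, ?_, ?_, hgen, fun g hg i j => ?_⟩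
  · have h1 : Nat.card A ≤ Nat.card H :=
      Nat.card_le_card_of_injective (fun t : A => (⟨G.full.x (top D) (t : K), t.2⟩ : H))
        fun t u e => Subtype.ext (G.x_inj F.top_lt (congrArg Subtype.val e))
    have h2 : r < (p ^ a) ^ r := Nat.lt_pow_self hq1
    omega
  · rw [← hAeq]
    exact (Nat.card_coe_set_eq _).symm.trans hcardA
  · exact ⟨Module.finrank A K, Module.natCard_eq_pow_finrank.trans
      (congrArg (fun n => n ^ Module.finrank A K) hcardA)⟩
  · have h := rational G τ F (hHG hg) fun g₁ hg₁ g₂ hg₂ => by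
      have hm : g₁ * g * g₂ ∈ H := mul_mem (mul_mem (hτrat hg₁) hg) (hτrat hg₂)
      by_cases h0 : F.cf (g₁ * g * g₂) = 0
      · rw [h0, map_zero]
      obtain ⟨q, hq, hconj⟩ := conj_top G F (hHG hm) h0
      refine W.rational K p τ H hτrat (fun t ht => by rw [hτ]; exact (hmem t).mp ht) q hq _ ?_
      have h1 := hconj 1
      rw [mul_one] at h1
      rw [← h1]
      exact mul_mem (mul_mem hm (hgen _ 1 (one_pow _))) (inv_mem hm)
    rw [← hτ]
    exact congrArg (fun m : GL D.Idx K => (m : Matrix D.Idx D.Idx K) i j) h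

/-- Subfield subgroups of prime degree are maximal. -/
theorem maximal {K : Type u} [Field K] [Finite K] (G : T.Good) (F : Frame T) (W : SubOK.{u} G)
    (p : ℕ) [Fact p.Prime] [CharP K p] {a r : ℕ} (ha : 1 ≤ a) (hr : r.Prime)
    (hK : Nat.card K = (p ^ a) ^ r) (M : Subgroup (GL D.Idx K))
    (hM : ∀ g : GL D.Idx K, g ∈ M ↔ g ∈ D.group K ∧ ∀ i j : D.Idx,
      ((g : Matrix D.Idx D.Idx K) i j) ^ (p ^ a) = (g : Matrix D.Idx D.Idx K) i j) :
    M ≠ D.group K ∧ ∀ H : Subgroup (GL D.Idx K), M ≤ H → H ≤ D.group K → H = M ∨ H = D.group K := by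
  haveI := Fintype.ofFinite K
  have hp := (Fact.out : p.Prime).two_le
  have hq1 : 1 < p ^ a := Nat.one_lt_pow (by omega) (by omega)
  set σ := iterateFrobenius K p a
  have hσ : ∀ x : K, σ x = x ^ (p ^ a) := fun x => iterateFrobenius_def p a x
  have hfix : ∀ g : GL D.Idx K, glMap D σ g = g ↔ ∀ i j : D.Idx,
      ((g : Matrix D.Idx D.Idx K) i j) ^ (p ^ a) = (g : Matrix D.Idx D.Idx K) i j := fun g => by
    constructor
    · intro h i j
      rw [← hσ]
      exact congrArg (fun m : GL D.Idx K => (m : Matrix D.Idx D.Idx K) i j) h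
    · intro h
      refine Units.ext (Matrix.ext fun i j => ?_)
      show σ _ = _
      rw [hσ]; exact h i j
  have hxM : ∀ s, ∀ t : K, G.full.x s t ∈ M ↔ glMap D σ (G.full.x s t) = G.full.x s t :=
    fun s t => by rw [hM, hfix]; exact and_iff_right (G.x_mem_group s t)
  have hcard := card_fixed_pow hq1 hK
  refine ⟨fun e => ?_, fun H hMH hHG => ?_⟩
  · obtain ⟨t, ht⟩ : ∃ t : K, t ^ (p ^ a) ≠ t := by
      by_contra hall
      simp only [not_exists, not_not] at hall
      have h1 : {x : K | x ^ (p ^ a) = x} = Set.univ := Set.eq_univ_of_forall hall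
      rw [h1, Set.ncard_univ, hK] at hcard
      have := Nat.pow_lt_pow_right hq1 hr.one_lt
      rw [hcard, pow_one] at this
      exact lt_irrefl _ this
    have h := (hxM (top D) t).mp (e ▸ G.x_mem_group _ _)
    rw [G.glMap_x] at h
    exact ht ((hσ t).symm.trans (G.x_inj F.top_lt h))
  · have hrat : ∀ s, ∀ t : K, t ^ (p ^ a) = t → G.full.x s t ∈ H := fun s t ht => hMH (by
      rw [hxM, G.glMap_x, hσ, ht])
    obtain ⟨n, hn1, -, hQ, ⟨d, hd⟩, hgen, hent⟩ := main_finite G F W p ha hcard H hrat hHG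
    rw [hK, ← pow_mul (p ^ a) n d] at hd
    rcases (Nat.dvd_prime hr).mp ⟨d, Nat.pow_right_injective hq1 hd⟩ with e | e
    · refine Or.inl (le_antisymm (fun g hg => (hM g).mpr ⟨hHG hg, fun i j => ?_⟩) hMH)
      have := hent g hg i j
      rwa [e, pow_one] at this
    · refine Or.inr (le_antisymm hHG (G.group_le_iff.mpr fun s _ t => hgen s t ?_))
      rw [e, ← hK, Nat.card_eq_fintype_card]
      exact FiniteField.pow_card t

end Finite

end SubfieldMax

end CfsgLib.Chev
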