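import Cfsg.Agent.Chev.Subfield.SL2

/-!
The computation in `SL₃`: a group containing the rational elations with a fixed centre in a skew
frame and an opposite transvection with irrational parameter contains an irrational scalar matrix.
-/

set_option autoImplicit false
set_option linter.style.haveILetI false

namespace CfsgLib.Chev.SubfieldMax

open Matrix

variable {K : Type*} [Field K]

/-- The elation `I + i E₀₁ + j E₀₂`. -/
def ela (i j : K) : SpecialLinearGroup (Fin 3) K :=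
  ⟨!![1, i, j; 0, 1, 0; 0, 0, 1], by simp [Matrix.det_fin_three]⟩

/-- The transvection `x₁₂(t) x₀₂(b t)`. -/
def zb (b t : K) : SpecialLinearGroup (Fin 3) K :=
  ⟨!![1, 0, b * t; 0, 1, t; 0, 0, 1], by simp [Matrix.det_fin_three]⟩

/-- The transvection `x₂₀(c)`. -/
def lo (c : K) : SpecialLinearGroup (Fin 3) K :=
  ⟨!![1, 0, 0; 0, 1, 0; c, 0, 1], by simp [Matrix.det_fin_three]⟩

/-- The scalar matrix of a cube root of one. -/
def sc (l : K) (h : l ^ 3 = 1) : SpecialLinearGroup (Fin 3) K :=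
  ⟨!![l, 0, 0; 0, l, 0; 0, 0, l], by simp [Matrix.det_fin_three, ← h]; ring⟩

/-- An element of the stabiliser of the plane of the first and last coordinates. -/
def emb (s : SpecialLinearGroup (Fin 2) K) (i j : K) : SpecialLinearGroup (Fin 3) K :=
  ⟨!![s.1 0 0, i, s.1 0 1; 0, 1, 0; s.1 1 0, j, s.1 1 1], by
    simp [Matrix.det_fin_three]; linear_combination det_two s⟩

theorem emb_mul (s s' : SpecialLinearGroup (Fin 2) K) (i j i' j' : K) :
    emb s i j * emb s' i' j' =
      emb (s * s') (s.1 0 0 * i' + i + s.1 0 1 * j') (s.1 1 0 * i' + j + s.1 1 1 * j') := by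
  refine Subtype.ext ?_
  show (emb s i j).1 * (emb s' i' j').1 = _
  ext a b
  fin_cases a <;> fin_cases b <;>
    simp [emb, Matrix.mul_apply, Fin.sum_univ_three, mul_entry]

theorem emb_one : emb (1 : SpecialLinearGroup (Fin 2) K) 0 0 = 1 := by
  refine Subtype.ext ?_
  ext a b
  fin_cases a <;> fin_cases b <;> simp [emb]

theorem ela_pow (i j : K) (n : ℕ) : ela i j ^ n = ela (n * i) (n * j) := by
  induction n with
  | zero =>
    rw [pow_zero]
    refine Subtype.ext ?_
    ext a b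
    fin_cases a <;> fin_cases b <;> simp [ela]
  | succ n ih =>
    rw [pow_succ, ih]
    refine Subtype.ext ?_
    show (ela _ _).1 * (ela i j).1 = _
    ext a b
    fin_cases a <;> fin_cases b <;> simp [ela, Matrix.mul_apply, Fin.sum_univ_three] <;> ring

theorem prod_form (l s w s' t b m : K) (hq : l ^ 2 + l + 1 = 0) (hts : t * s' = -l) :
    ∃ A B, !![1, 0, b * -(2 * t); 0, 1, -(2 * t); 0, 0, 1] * !![l, s, w; 0, 1, 0; 0, s', l ^ 2] *
      !![1, 0, b * -t; 0, 1, -t; 0, 0, 1] *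
      !![l ^ 2, m, -w; 0, 1, 0; 0, -(l * s'), l] *
      !![1, 0, b * -t; 0, 1, -t; 0, 0, 1] * !![l, s, w; 0, 1, 0; 0, s', l ^ 2] =
      !![l, A, B; 0, l, 0; 0, 0, l] := by
  set P := !![1, 0, b * -(2 * t); 0, 1, -(2 * t); 0, 0, 1] * !![l, s, w; 0, 1, 0; 0, s', l ^ 2] *
      !![1, 0, b * -t; 0, 1, -t; 0, 0, 1] *
      !![l ^ 2, m, -w; 0, 1, 0; 0, -(l * s'), l] *
      !![1, 0, b * -t; 0, 1, -t; 0, 0, 1] * !![l, s, w; 0, 1, 0; 0, s', l ^ 2] with hP
  refine ⟨P 0 1, P 0 2, Matrix.ext fun i j => ?_⟩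
  fin_cases i <;> fin_cases j <;> simp [hP, Matrix.mul_apply, Fin.sum_univ_three]
  all_goals grind

section

variable (σ : K →+* K) (P : Subgroup (SpecialLinearGroup (Fin 3) K)) {β β' c : K}
  (hE : ∀ i j, ela i j ∈ P ↔ σ i = i ∧ σ (j - β * i) = j - β * i)
  (hY : lo c ∈ P)
include hE hY

/-- With a rational frame the opposite parameter is rational. -/
theorem lo_rational (hβ : σ β = β) : σ c = c := by
  have h1 : ela (1 : K) 0 ∈ P := (hE 1 0).mpr ⟨map_one σ, by simp [hβ]⟩
  have h2 : ela (0 : K) 1 ∈ P := (hE 0 1).mpr ⟨map_zero σ, by simp⟩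
  let W : SpecialLinearGroup (Fin 3) K :=
    ⟨!![1, 1, 0; 0, 1, 0; 0, c, 1], by simp [Matrix.det_fin_three]⟩
  have e1 : lo c * ela 1 0 = W * lo c := by
    refine Subtype.ext ?_
    show (lo c).1 * (ela 1 0).1 = !![(1 : K), 1, 0; 0, 1, 0; 0, c, 1] * (lo c).1
    ext a b
    fin_cases a <;> fin_cases b <;> simp [ela, lo, Matrix.mul_apply, Fin.sum_univ_three]
  have hW : W ∈ P := by
    have h := mul_mem hY h1
    rw [e1] at h
    exact (mul_mem_cancel_right hY).mp h
  have e2 : ela (0 : K) 1 * W = ela c 0 * (W * ela 0 1) := by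
    refine Subtype.ext ?_
    show (ela (0 : K) 1).1 * !![(1 : K), 1, 0; 0, 1, 0; 0, c, 1] =
      (ela c 0).1 * (!![(1 : K), 1, 0; 0, 1, 0; 0, c, 1] * (ela (0 : K) 1).1)
    ext a b
    fin_cases a <;> fin_cases b <;> simp [ela, Matrix.mul_apply, Fin.sum_univ_three]
  have h3 := mul_mem h2 hW
  rw [e2] at h3
  replace h3 := (mul_mem_cancel_right (mul_mem hW h2)).mp h3
  exact ((hE c 0).mp h3).1

set_option maxHeartbeats 2000000 in
/-- With an irrational frame there is an irrational scalar. -/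
theorem exists_scalar [Finite K] (p : ℕ) [Fact p.Prime] [CharP K p]
    (hZ : ∀ t, σ t = t → zb β' t ∈ P) (hc : c ≠ 0) (hβ : σ β ≠ β) :
    ∃ (l : K) (h : l ^ 3 = 1), σ l ≠ l ∧ sc l h ∈ P := by
  let S : Subgroup (SpecialLinearGroup (Fin 2) K) :=
    { carrier := {s | ∃ i j, emb s i j ∈ P}
      one_mem' := ⟨0, 0, by rw [emb_one]; exact one_mem P⟩
      mul_mem' := fun {s s'} ⟨i, j, h⟩ ⟨i', j', h'⟩ => ⟨_, _, by rw [← emb_mul]; exact mul_mem h h'⟩
      inv_mem' := fun {s} ⟨i, j, h⟩ => by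
        refine ⟨-(s.1 1 1 * i - s.1 0 1 * j), -(-(s.1 1 0) * i + s.1 0 0 * j), ?_⟩
        have e : emb s i j * emb s⁻¹ (-(s.1 1 1 * i - s.1 0 1 * j))
            (-(-(s.1 1 0) * i + s.1 0 0 * j)) = 1 := by
          rw [emb_mul, mul_inv_cancel, ← emb_one]
          congr 1
          · linear_combination -i * det_two s
          · linear_combination -j * det_two s
        rw [← inv_eq_of_mul_eq_one_right e]
        exact inv_mem h }
  haveI : Finite S := inferInstance
  have hnat : ∀ n : ℕ, (n : K) ≠ β := fun n e => hβ (by rw [← e, map_natCast])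
  obtain ⟨d, ⟨s, s', hD⟩, hd0, hd1⟩ := exists_upper p S
    (a := ⟨!![1, 1; 0, 1], by simp [Matrix.det_fin_two]⟩)
    (b := ⟨!![1, β; 0, 1], by simp [Matrix.det_fin_two]⟩)
    ⟨0, 0, by
      have : ela (0 : K) 1 ∈ P := (hE 0 1).mpr ⟨map_zero σ, by simp⟩
      convert this using 1
      exact Subtype.ext (by ext a b; fin_cases a <;> fin_cases b <;> simp [emb, ela])⟩
    ⟨1, 0, by
      have : ela (1 : K) β ∈ P := (hE 1 β).mpr ⟨map_one σ, by simp⟩
      convert this using 1
      exact Subtype.ext (by ext a b; fin_cases a <;> fin_cases b <;> simp [emb, ela])⟩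
    rfl rfl hnat (l := ⟨!![1, 0; c, 1], by simp [Matrix.det_fin_two]⟩)
    ⟨0, 0, by
      convert hY using 1
      exact Subtype.ext (by ext a b; fin_cases a <;> fin_cases b <;> simp [emb, lo])⟩ rfl hc
  set l := d.1 0 0 with hl
  set w := d.1 0 1
  set m := d.1 1 1
  have hlm : l * m = 1 := by
    have := det_two d
    rw [hd0, mul_zero, sub_zero] at this
    exact this
  have hl0 : l ≠ 0 := left_ne_zero_of_mul_eq_one hlm
  have hl1 : l ≠ 1 := fun e => hd1 (by rw [e, one_mul])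
  have hact : ∀ i j, ela i j ∈ P → ela (l * i - l ^ 2 * s' * j) (l ^ 2 * j) ∈ P := by
    intro i j h
    have e : emb d s s' * ela i j = ela (l * i - l ^ 2 * s' * j) (l ^ 2 * j) * emb d s s' := by
      refine Subtype.ext ?_
      show (emb d s s').1 * (ela i j).1 = (ela _ _).1 * (emb d s s').1
      ext a b
      fin_cases a <;> fin_cases b <;>
        simp [emb, ela, Matrix.mul_apply, Fin.sum_univ_three, hd0]
      · linear_combination (0 : K) * hlm
      · linear_combination (-(l * j)) * hlm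
    have h2 := mul_mem (mul_mem hD h) (inv_mem hD)
    rwa [e, mul_inv_cancel_right] at h2
  obtain ⟨hi1, hj1⟩ := (hE _ _).mp (hact 0 1 ((hE 0 1).mpr ⟨map_zero σ, by simp⟩))
  obtain ⟨hi2, hj2⟩ := (hE _ _).mp (hact 1 β ((hE 1 β).mpr ⟨map_one σ, by simp⟩))
  set i1 := l * 0 - l ^ 2 * s' * 1 with hi1d
  set j1 := l ^ 2 * 1 - β * i1 with hj1d
  set i2 := l * 1 - l ^ 2 * s' * β with hi2d
  set j2 := l ^ 2 * β - β * i2 with hj2d
  have el : l = i2 - i1 * β := by rw [hi1d, hi2d]; ring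
  have eq2 : i1 * β ^ 2 + (j1 - i2) * β - j2 = 0 := by rw [hj2d, hj1d]; ring
  have hi10 : i1 ≠ 0 := by
    intro e
    have hl' : σ l = l := by
      rw [el, e, zero_mul, sub_zero]; exact hi2
    have hmul : (l ^ 2 - i2) * β = j2 := by rw [hj2d]; ring
    have hz : l ^ 2 - i2 = 0 := by
      by_contra hne
      refine hβ ?_
      have hb : β = j2 / (l ^ 2 - i2) := eq_div_of_mul_eq hne (by rw [mul_comm]; exact hmul)
      conv_lhs => rw [hb]
      rw [map_div₀, hj2, map_sub, map_pow, hl', hi2, ← hb]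
    have e2 : i2 = l := by rw [el, e]; ring
    rw [e2] at hz
    exact hl1 (mul_left_cancel₀ hl0 (show l * l = l * 1 by linear_combination hz))
  have eq3 := congrArg σ eq2
  simp only [map_sub, map_add, map_mul, map_pow, hi1, hj1, hi2, hj2, map_zero] at eq3
  have hσβ : σ β = (i2 - j1) / i1 - β := by
    have h : (σ β - β) * (i1 * (σ β + β) + (j1 - i2)) = 0 := by linear_combination eq3 - eq2
    have h' := (mul_eq_zero.mp h).resolve_left (sub_ne_zero.mpr hβ)
    field_simp
    linear_combination h'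
  have hσl : σ l = l ^ 2 := by
    conv_lhs => rw [el]
    rw [map_sub, map_mul, hi2, hi1, hσβ, mul_sub, mul_div_cancel₀ _ hi10, hj1d]
    ring
  have hσσ : σ (σ β) = β := by
    conv_lhs => rw [hσβ]
    rw [map_sub, map_div₀, map_sub, hi2, hj1, hi1, hσβ]
    ring
  have h3 : l ^ 3 = 1 := by
    have h4 : σ (σ l) = l := by
      conv_lhs => rw [el]
      rw [map_sub, map_mul, map_sub, map_mul, hi2, hi2, hi1, hi1, hσσ, ← el]
    rw [hσl, map_pow, hσl] at h4
    exact mul_left_cancel₀ hl0 (show l * l ^ 3 = l * 1 by linear_combination h4)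
  have hq : l ^ 2 + l + 1 = 0 := by
    have : (l - 1) * (l ^ 2 + l + 1) = 0 := by linear_combination h3
    exact (mul_eq_zero.mp this).resolve_left (sub_ne_zero.mpr hl1)
  have hlne : σ l ≠ l := fun e => hl1 (by
    rw [hσl] at e
    exact mul_left_cancel₀ hl0 (show l * l = l * 1 by linear_combination e))
  have h3ne : (3 : K) ≠ 0 := fun e => by
    have : (l - 1) ^ 2 = 0 := by linear_combination hq - l * e
    exact hl1 (sub_eq_zero.mp (pow_eq_zero_iff two_ne_zero |>.mp this))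
  have hm : m = l ^ 2 := mul_left_cancel₀ hl0 (by rw [hlm, ← h3]; ring)
  have hs' : s' = -l * i1 := by
    rw [hi1d]; linear_combination (-s') * h3
  have hσinv : σ i1⁻¹ = i1⁻¹ := by rw [map_inv₀, hi1]
  set t := i1⁻¹ with ht
  have hti : t * i1 = 1 := inv_mul_cancel₀ hi10
  -- the product with trivial action on the elations
  set g := zb β' (-(2 * t)) * emb d s s' * zb β' (-t) * (emb d s s')⁻¹ * zb β' (-t) * emb d s s'
  have hg : g ∈ P := by
    refine mul_mem (mul_mem (mul_mem (mul_mem (mul_mem (hZ _ ?_) hD) (hZ _ ?_)) (inv_mem hD))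
      (hZ _ ?_)) hD
    · rw [map_neg, map_mul, hσinv, map_ofNat]
    · rw [map_neg, hσinv]
    · rw [map_neg, hσinv]
  have hinv : (emb d s s')⁻¹ = emb d⁻¹ (-(m * s - w * s')) (-(l * s')) := by
    refine inv_eq_of_mul_eq_one_right ?_
    rw [emb_mul, mul_inv_cancel, ← emb_one, hd0]
    congr 1
    · linear_combination (-s) * hlm
    · linear_combination (-s') * hlm
  obtain ⟨A, B, hgv⟩ : ∃ A B, g.1 = !![l, A, B; 0, l, 0; 0, 0, l] := by
    have e : g.1 = (zb β' (-(2 * t))).1 * (emb d s s').1 * (zb β' (-t)).1 *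
        (emb d⁻¹ (-(m * s - w * s')) (-(l * s'))).1 * (zb β' (-t)).1 * (emb d s s').1 := by
      rw [← hinv]; rfl
    have q00 : (d⁻¹).1 0 0 = m := by rw [inv_entry]; rfl
    have q01 : (d⁻¹).1 0 1 = -w := by rw [inv_entry]; rfl
    have q10 : (d⁻¹).1 1 0 = 0 := by rw [inv_entry]; simp [hd0]
    have q11 : (d⁻¹).1 1 1 = l := by rw [inv_entry]; rfl
    rw [e]
    simp only [emb, zb, q00, q01, q10, q11, hd0]
    show ∃ A B, !![1, 0, β' * -(2 * t); 0, 1, -(2 * t); 0, 0, 1] * !![l, s, w; 0, 1, 0; 0, s', m] *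
      !![1, 0, β' * -t; 0, 1, -t; 0, 0, 1] *
      !![m, -(m * s - w * s'), -w; 0, 1, 0; 0, -(l * s'), l] *
      !![1, 0, β' * -t; 0, 1, -t; 0, 0, 1] * !![l, s, w; 0, 1, 0; 0, s', m] = _
    rw [hm]
    exact prod_form l s w s' t β' _ hq
      (by rw [hs']; linear_combination (-l) * hti)
  have hcube : g ^ 3 = ela (3 * l ^ 2 * A) (3 * l ^ 2 * B) := by
    rw [pow_three]
    refine Subtype.ext ?_
    show g.1 * (g.1 * g.1) = (ela _ _).1
    rw [hgv]
    ext a b
    fin_cases a <;> fin_cases b <;>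
      simp [ela, Matrix.mul_apply, Fin.sum_univ_three] <;>
      first
        | linear_combination h3
        | ring
  obtain ⟨k, hk⟩ : ∃ k : ℕ, (k : K) * 3 = 1 := by
    refine ⟨((3 : ZMod p)⁻¹).val, ?_⟩
    have h3p : (3 : ZMod p) ≠ 0 := fun e => h3ne (by
      rw [← map_ofNat (ZMod.castHom dvd_rfl K), e, map_zero])
    rw [← map_natCast (ZMod.castHom dvd_rfl K), ZMod.natCast_zmod_val,
      ← map_ofNat (ZMod.castHom dvd_rfl K), ← map_mul, inv_mul_cancel₀ h3p, map_one]
  refine ⟨l, h3, hlne, ?_⟩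
  have e : sc l h3 = g * ((g ^ 3) ^ k)⁻¹ := by
    rw [eq_mul_inv_iff_mul_eq, hcube, ela_pow]
    refine Subtype.ext ?_
    show (sc l h3).1 * (ela _ _).1 = g.1
    rw [hgv]
    ext a b
    fin_cases a <;> fin_cases b <;> simp [sc, ela, Matrix.mul_apply, Fin.sum_univ_three]
    · linear_combination (l ^ 3 * A) * hk + A * h3
    · linear_combination (l ^ 3 * B) * hk + B * h3
  rw [e]
  exact mul_mem hg (inv_mem (pow_mem (pow_mem hg 3) k))

end

end CfsgLib.Chev.SubfieldMax
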