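import Cfsg.Agent.Chev.Subfield.ThreeFrame
import Cfsg.Agent.Chev.Subfield.FrameData

/-! The certificates for the checks of `Subfield.ThreeFrame`. -/

set_option autoImplicit false

namespace CfsgLib.Chev.SubfieldMax

open Cfsg.Lie

theorem tri_G2 : Tri G2Data.tab := ⟨6, 10, 1, 8, 9, -3, by decide +kernel⟩

theorem tri_D4 : Tri D4Data.tab := ⟨14, 22, 1, 15, 21, 1, by decide +kernel⟩

theorem tri_F4 : Tri F4Data.tab := ⟨24, 46, 1, 26, 45, -1, by decide +kernel⟩

theorem tri_E6 : Tri E6Data.tab := ⟨46, 70, 1, 47, 69, 1, by decide +kernel⟩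

theorem tri_E7 : Tri E7Data.tab := ⟨93, 124, 1, 94, 123, 1, by decide +kernel⟩

theorem tri_E8 : Tri E8Data.tab := ⟨120, 238, 1, 122, 237, -1, by decide +kernel⟩

end CfsgLib.Chev.SubfieldMax
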