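import Cfsg.Agent.Chev.Subfield.Frame
import Cfsg.Agent.Chev.Subfield.Three
import Cfsg.Agent.An.Lift

/-!
Root systems with an `A₂` through the highest root: the parameters of the highest root group in an
overgroup of the rational points form a ring, and rational highest root parameters force rational
opposite ones.
-/

set_option autoImplicit false
set_option linter.unusedSectionVars false

namespace CfsgLib.Chev

open Cfsg.Lie Matrix
open scoped MatrixGroups

namespace SubfieldMax

open Tab

variable {D : ChevalleyDatum}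

/-- The root at a position of `SL₃`. -/
def triRoot (D : ChevalleyDatum) (a b : ℕ) : ℕ → ℕ → ℕ
  | 0, 1 => a
  | 1, 2 => b
  | 0, 2 => top D
  | 1, 0 => negR D a
  | 2, 1 => negR D b
  | _, _ => negR D (top D)

/-- The sign at a position of `SL₃`. -/
def triSgn (e : ℤ) : ℕ → ℕ → ℤ
  | 1, 2 => e
  | 2, 1 => e
  | _, _ => 1

/-- The check on an `A₂` through the highest root and on a pair of roots moved by its centre. -/
def chkTri (T : Tab D) (a b : ℕ) (e : ℤ) (s s' : ℕ) (m : ℤ) : Bool :=
  inQ T a && inQ T b && decide (e = 1 ∨ e = -1) &&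
  allBelow (fun i => allBelow (fun j => Nat.beq i j ||
    (Nat.blt (triRoot D a b i j) D.nroots &&
      allBelow (fun k => allBelow (fun l => Nat.beq k l || Nat.beq i l || Nat.beq j k ||
        Nat.beq (triRoot D a b i j) (triRoot D a b k l) ||
        (!(Nat.beq (triRoot D a b k l) (negR D (triRoot D a b i j))) &&
          (T.commT (triRoot D a b i j) (triRoot D a b k l)).isEmpty)) 3) 3 &&
      allBelow (fun l => Nat.beq i l || Nat.beq j l ||
        (!(Nat.beq (triRoot D a b i j) (triRoot D a b j l)) &&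
          !(Nat.beq (triRoot D a b i j) (negR D (triRoot D a b j l))) &&
          decide (T.commT (triRoot D a b j l) (triRoot D a b i j) = [(triRoot D a b i l,
            -(triSgn e i j * triSgn e j l * triSgn e i l), 1, 1)]))) 3)) 3) 3 &&
  decide ((T.pairT a (top D) + 2 * T.pairT b (top D)) % 3 = 0) &&
  inQ T s && inQ T s' && !(Nat.beq s s') &&
  decide (T.commT s' s = [(top D, m, 1, 1)]) && decide (m.natAbs = 1 ∨ m.natAbs = 3) &&
  decide ((T.pairT a s + 2 * T.pairT b s) % 3 ≠ 0)

/-- The facts obtained from the check. -/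
structure Tri (T : Tab D) : Prop where
  data : ∃ (a b : ℕ) (e : ℤ) (s s' : ℕ) (m : ℤ), chkTri T a b e s s' m = true

variable {T : Tab D} (G : T.Good) {K : Type*} [Field K] (σ : K →+* K)
include G

/-- Conjugation by `h_r(t)`. -/
theorem hr_x {r s : ℕ} (hr : r < D.nroots) (hs : s < D.nroots) {t : K} (ht : t ≠ 0) (u : K) :
    G.full.hr r t * G.full.x s u * (G.full.hr r t)⁻¹ = G.full.x s (t ^ T.pairT r s * u) := by
  rw [G.full.hr_eq_hT hr ht, G.full.hT_conj hs]
  have : T.chi (F := K) s (fun i => Units.mk0 t ht ^ T.cor r i) =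
      Units.mk0 t ht ^ T.pairT r s := by
    rw [pairT_eq_sum, zpow_sum_eq_prod]
    simp only [chi, MonoidHom.coe_mk, OneHom.coe_mk, ← _root_.zpow_mul]
  rw [this, Units.val_zpow_eq_zpow_val, Units.val_mk0]

/-- The root elements of the `A₂`. -/
def triX (a b : ℕ) (e : ℤ) (i j : Fin 3) (t : K) : GL D.Idx K :=
  G.full.x (triRoot D a b i j) ((triSgn e i j : K) * t)

theorem triX_rel {a b : ℕ} {e : ℤ} {s s' : ℕ} {m : ℤ} (h : chkTri T a b e s s' m = true) :
    (∀ i j, i ≠ j → ∀ t u : K,
      triX G a b e i j (t + u) = triX G a b e i j t * triX G a b e i j u) ∧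
    (∀ i j k l, i ≠ j → k ≠ l → i ≠ l → j ≠ k → ∀ t u : K,
      Commute (triX G a b e i j t) (triX G a b e k l u)) ∧
    (∀ i j l, i ≠ j → j ≠ l → i ≠ l → ∀ t u : K,
      triX G a b e i j t * triX G a b e j l u * (triX G a b e i j t)⁻¹ *
        (triX G a b e j l u)⁻¹ = triX G a b e i l (t * u)) := by
  simp only [chkTri, Bool.and_eq_true, allBelow_iff, Bool.or_eq_true, Nat.beq_eq, Nat.blt_eq,
    Bool.not_eq_true', decide_eq_true_eq, List.isEmpty_iff] at h
  obtain ⟨⟨⟨⟨⟨⟨⟨⟨⟨⟨ha, hb⟩, he⟩, hall⟩, -⟩, -⟩, -⟩, -⟩, -⟩, -⟩, -⟩ := h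
  have hne : ∀ {i j : Fin 3}, i ≠ j → ¬ (i : ℕ) = j := fun hij e' => hij (Fin.ext e')
  have hnb : ∀ {x y : ℕ}, Nat.beq x y = false → x ≠ y := fun hb' e' => by
    subst e'; simp at hb'
  have H := fun (i j : Fin 3) (hij : i ≠ j) => (hall i i.2 j j.2).resolve_left (hne hij)
  refine ⟨fun i j _ t u => by simp only [triX]; rw [G.full.x_add, mul_add], ?_, ?_⟩
  · intro i j k l hij hkl hil hjk t u
    obtain ⟨⟨hr, hf⟩, -⟩ := H i j hij
    obtain ⟨⟨hr', -⟩, -⟩ := H k l hkl
    rcases hf k k.2 l l.2 with (((e' | e') | e') | e') | e'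
    · exact absurd e' (hne hkl)
    · exact absurd e' (hne hil)
    · exact absurd e' (hne hjk)
    · simp only [triX]
      rw [e']
      show _ * _ = _ * _
      rw [G.full.x_add, G.full.x_add, add_comm]
    · simp only [triX]
      rcases eq_or_ne (triRoot D a b k l) (triRoot D a b i j) with e'' | hne'
      · rw [e'']
        show _ * _ = _ * _
        rw [G.full.x_add, G.full.x_add, add_comm]
      have h1 := G.full.x_comm hr hr' hne' (hnb e'.1) ((triSgn e i j : K) * t)
        ((triSgn e k l : K) * u)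
      rw [G.full.cert.commWord_eq hr hr', e'.2] at h1
      simp only [rhsWord, List.map_nil, List.prod_nil, mul_one] at h1
      exact h1.symm
  · intro i j l hij hjl hil t u
    obtain ⟨⟨hr, -⟩, hn⟩ := H i j hij
    obtain ⟨⟨hr', -⟩, -⟩ := H j l hjl
    obtain ⟨⟨hk, hkf⟩, -⟩ := H i l hil
    obtain ⟨⟨h1, h2⟩, h3⟩ := (hn l l.2).resolve_left (by
      rintro (e' | e')
      exacts [hne hil e', hne hjl e'])
    have hc : ∀ (c d : Fin 3), c ≠ d → i ≠ d → l ≠ c → ∀ v w : K,
        Commute (G.full.x (triRoot D a b i l) v) (G.full.x (triRoot D a b c d) w) := by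
      intro c d hcd hid hlc v w
      obtain ⟨⟨hr'', -⟩, -⟩ := H c d hcd
      rcases hkf c c.2 d d.2 with (((e' | e') | e') | e') | e'
      · exact absurd e' (hne hcd)
      · exact absurd e' (hne hid)
      · exact absurd e' (hne hlc)
      · rw [← e']
        show _ * _ = _ * _
        rw [G.full.x_add, G.full.x_add, add_comm]
      · rcases eq_or_ne (triRoot D a b c d) (triRoot D a b i l) with e'' | hne'
        · rw [e'']
          show _ * _ = _ * _
          rw [G.full.x_add, G.full.x_add, add_comm]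
        have h1 := G.full.x_comm hk hr'' hne' (hnb e'.1) v w
        rw [G.full.cert.commWord_eq hk hr'', e'.2] at h1
        simp only [rhsWord, List.map_nil, List.prod_nil, mul_one] at h1
        exact h1.symm
    simp only [triX]
    set r := triRoot D a b i j
    set r' := triRoot D a b j l
    have h4 := G.full.x_comm hr' hr (hnb h1) (hnb h2) ((triSgn e j l : K) * u)
      ((triSgn e i j : K) * t)
    rw [G.full.cert.commWord_eq hr' hr, h3] at h4
    simp only [rhsWord, List.map_cons, List.map_nil, List.prod_cons, List.prod_nil, mul_one,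
      pow_one] at h4
    have hs1 : ∀ a' b', (triSgn e a' b' : K) * (triSgn e a' b' : K) = 1 := fun a' b' => by
      have : triSgn e a' b' = 1 ∨ triSgn e a' b' = -1 := by
        unfold triSgn; split <;> first | exact he | exact Or.inl rfl
      rcases this with e' | e' <;> simp [e']
    rw [h4, show ∀ (p₁ p₂ w : GL D.Idx K), p₁ * p₂ * w * p₂⁻¹ * p₁⁻¹ =
      p₁ * (p₂ * w * p₂⁻¹) * p₁⁻¹ from fun _ _ _ => by group]
    rw [← (hc i j hij (Fin.ext_iff.not.mpr (hne hij)) hil.symm _ _).eq, mul_inv_cancel_right,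
      ← (hc j l hjl hil hjl.symm _ _).eq, mul_inv_cancel_right]
    refine congrArg (G.full.x _) ?_
    push_cast
    linear_combination ((triSgn e i l : K) * t * u) * hs1 i j +
      ((triSgn e i l : K) * t * u * (triSgn e i j : K) * (triSgn e i j : K)) * hs1 j l

variable (F : Frame T) (P : Subgroup (GL D.Idx K))
include F

/-- The parameters of the highest root group in an overgroup are closed under multiplication. -/
theorem tri_ring (R : Tri T) (hP : rat G σ ≤ P) {t u : K} (ht : G.full.x (top D) t ∈ P)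
    (hu : G.full.x (top D) u ∈ P) : G.full.x (top D) (t * u) ∈ P := by
  obtain ⟨a, b, e, s, s', m, h⟩ := R.data
  obtain ⟨-, -, hn⟩ := triX_rel G (K := K) h
  have hmem : ∀ i j, triX G a b e i j (1 : K) ∈ P := fun i j =>
    hP (x_mem_rat G σ _ (by rw [map_mul, map_intCast, map_one]))
  have e02 : ∀ v : K, triX G a b e 0 2 v = G.full.x (top D) v := fun v => by
    simp [triX, triRoot, triSgn]
  have hcomm : ∀ {x y : GL D.Idx K}, x ∈ P → y ∈ P → x * y * x⁻¹ * y⁻¹ ∈ P := fun hx hy =>
    mul_mem (mul_mem (mul_mem hx hy) (inv_mem hx)) (inv_mem hy)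
  have h1 : triX G a b e 0 1 t ∈ P := by
    have := hn 0 2 1 (by decide) (by decide) (by decide) t 1
    rw [mul_one] at this
    rw [← this]
    exact hcomm (by rw [e02]; exact ht) (hmem 2 1)
  have h2 : triX G a b e 1 2 u ∈ P := by
    have := hn 1 0 2 (by decide) (by decide) (by decide) 1 u
    rw [one_mul] at this
    rw [← this]
    exact hcomm (hmem 1 0) (by rw [e02]; exact hu)
  rw [← e02, ← hn 0 1 2 (by decide) (by decide) (by decide) t u]
  exact hcomm h1 h2

set_option maxHeartbeats 1000000 in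
/-- Rational highest root parameters force rational opposite parameters. -/
theorem tri_rational [Finite K] (p : ℕ) [Fact p.Prime] [CharP K p] (R : Tri T)
    (hP : rat G σ ≤ P) (hA : ∀ t, G.full.x (top D) t ∈ P → σ t = t) {q : GL D.Idx K}
    (hq : q ∈ G.US K (qs T)) {c : K}
    (hc : q * G.full.x (negR D (top D)) c * q⁻¹ ∈ P) : σ c = c := by
  obtain ⟨a, b, e, s, s', m, h⟩ := R.data
  obtain ⟨hadd, hfar, hnear⟩ := triX_rel G (K := K) h
  obtain ⟨φ, hφ⟩ := CfsgLib.An.exists_hom (n := 3) le_rfl (triX G (K := K) a b e) hadd hfar hnear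
  simp only [chkTri, Bool.and_eq_true, decide_eq_true_eq, Bool.not_eq_true'] at h
  obtain ⟨⟨⟨⟨⟨⟨⟨⟨⟨⟨ha, hb⟩, he⟩, -⟩, htop⟩, hs⟩, hs'⟩, hss⟩, hm⟩, hm'⟩, hn⟩ := h
  have hap := F.closedQ.1 a ha
  have hbp := F.closedQ.1 b hb
  have hsp := F.closedQ.1 s hs
  have hsp' := F.closedQ.1 s' hs'
  have hqp : q ∈ G.US K {r | IsPos D r} := G.US_mono (fun r hr => F.closedQ.1 r hr) hq
  have hee : ((e : K)) * (e : K) = 1 := by rcases he with e' | e' <;> simp [e']
  have hσe : σ (e : K) = (e : K) := map_intCast σ e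
  obtain ⟨βa, hβa⟩ := lin G F hq ha
  obtain ⟨βb, hβb⟩ := lin G F hq hb
  obtain ⟨γ, hγ⟩ := lin G F hq hs
  have hqz : ∀ v, q * G.full.x (top D) v * q⁻¹ = G.full.x (top D) v := fun v => by
    rw [(top_comm G F hqp v).eq, mul_inv_cancel_right]
  have n01 : (0 : Fin 3) ≠ 1 := by decide
  have n12 : (1 : Fin 3) ≠ 2 := by decide
  have n02 : (0 : Fin 3) ≠ 2 := by decide
  have t01 : ∀ v : K, φ (SpecialLinearGroup.transvection n01 v) = G.full.x a v := fun v => by
    rw [hφ]; simp [triX, triRoot, triSgn]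
  have t10 : ∀ v : K, φ (SpecialLinearGroup.transvection n01.symm v) =
      G.full.x (negR D a) v := fun v => by
    rw [hφ]; simp [triX, triRoot, triSgn]
  have t12 : ∀ v : K, φ (SpecialLinearGroup.transvection n12 v) = G.full.x b ((e : K) * v) :=
    fun v => by rw [hφ]; simp [triX, triRoot, triSgn]
  have t21 : ∀ v : K, φ (SpecialLinearGroup.transvection n12.symm v) =
      G.full.x (negR D b) ((e : K) * v) := fun v => by
    rw [hφ]; simp [triX, triRoot, triSgn]
  have t02 : ∀ v : K, φ (SpecialLinearGroup.transvection n02 v) = G.full.x (top D) v :=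
    fun v => by rw [hφ]; simp [triX, triRoot, triSgn]
  have t20 : ∀ v : K, φ (SpecialLinearGroup.transvection n02.symm v) =
      G.full.x (negR D (top D)) v := fun v => by
    rw [hφ]; simp [triX, triRoot, triSgn]
  have eela : ∀ i j : K, φ (ela i j) = G.full.x a i * G.full.x (top D) j := fun i j => by
    rw [← t01, ← t02, ← map_mul]
    congr 1
    refine Subtype.ext ?_
    show _ = (SpecialLinearGroup.transvection n01 i).1 * (SpecialLinearGroup.transvection n02 j).1
    ext x y
    fin_cases x <;> fin_cases y <;>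
      simp [ela, SpecialLinearGroup.transvection_coe, Matrix.mul_apply, Fin.sum_univ_three,
        Matrix.single_apply]
  have ezb : ∀ β' v : K, φ (zb β' v) = G.full.x b ((e : K) * v) * G.full.x (top D) (β' * v) :=
    fun β' v => by
    rw [← t12, ← t02, ← map_mul]
    congr 1
    refine Subtype.ext ?_
    show _ = (SpecialLinearGroup.transvection n12 v).1 *
      (SpecialLinearGroup.transvection n02 (β' * v)).1
    ext x y
    fin_cases x <;> fin_cases y <;>
      simp [zb, SpecialLinearGroup.transvection_coe, Matrix.mul_apply, Fin.sum_univ_three,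
        Matrix.single_apply]
  have elo : φ (lo c) = G.full.x (negR D (top D)) c := by
    rw [← t20]
    congr 1
    refine Subtype.ext ?_
    ext x y
    fin_cases x <;> fin_cases y <;>
      simp [lo, SpecialLinearGroup.transvection_coe, Matrix.single_apply]
  let P₀ : Subgroup (SpecialLinearGroup (Fin 3) K) :=
    P.comap ((MulAut.conj q).toMonoidHom.comp φ)
  have memP₀ : ∀ g, g ∈ P₀ ↔ q * φ g * q⁻¹ ∈ P := fun g => Iff.rfl
  -- the elations in the skew frame
  have hE : ∀ i j, ela i j ∈ P₀ ↔ σ i = i ∧ σ (j - -βa * i) = j - -βa * i := by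
    intro i j
    have e1 : q * φ (ela i j) * q⁻¹ = G.full.x a i * G.full.x (top D) (j - -βa * i) := by
      rw [eela, show q * (G.full.x a i * G.full.x (top D) j) * q⁻¹ =
        (q * G.full.x a i * q⁻¹) * (q * G.full.x (top D) j * q⁻¹) by group, hβa, hqz, mul_assoc,
        G.full.x_add]
      congr 2
      ring
    rw [memP₀, e1]
    set k := j - -βa * i
    constructor
    · intro hik
      have hy : triX G a b e 1 2 (1 : K) ∈ P :=
        hP (x_mem_rat G σ _ (by rw [map_mul, map_intCast, map_one]))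
      have h1 : G.full.x a i * G.full.x (top D) k * triX G a b e 1 2 1 *
          (G.full.x a i * G.full.x (top D) k)⁻¹ * (triX G a b e 1 2 1)⁻¹ =
          G.full.x (top D) i := by
        have hk : Commute (G.full.x (top D) k) (triX G a b e 1 2 (1 : K)) :=
          (top_comm G F (G.x_mem_US (S := {r | IsPos D r}) hbp _) k).symm
        have hn' := hnear 0 1 2 n01 n12 n02 i 1
        rw [mul_one] at hn'
        rw [show G.full.x (top D) i = triX G a b e 0 2 i by simp [triX, triRoot, triSgn], ← hn',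
          show triX G a b e 0 1 i = G.full.x a i by simp [triX, triRoot, triSgn],
          show ∀ x y z : GL D.Idx K, x * y * z * (x * y)⁻¹ * z⁻¹ =
            x * (y * z * y⁻¹) * x⁻¹ * z⁻¹ from fun _ _ _ => by group,
          hk.eq, mul_inv_cancel_right]
      have hi : σ i = i := hA i (h1 ▸ mul_mem (mul_mem (mul_mem hik hy) (inv_mem hik)) (inv_mem hy))
      exact ⟨hi, hA k ((mul_mem_cancel_left (hP (x_mem_rat G σ a hi))).mp hik)⟩
    · exact fun ⟨hi, hk⟩ => mul_mem (hP (x_mem_rat G σ a hi)) (hP (x_mem_rat G σ _ hk))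
  have hY : lo c ∈ P₀ := by rw [memP₀, elo]; exact hc
  by_cases hβ : σ (-βa) = -βa
  · exact lo_rational σ P₀ hE hY hβ
  by_cases hc0 : c = 0
  · rw [hc0, map_zero]
  have hZ : ∀ v, σ v = v → zb (-((e : K) * βb)) v ∈ P₀ := fun v hv => by
    rw [memP₀, ezb, show q * (G.full.x b ((e : K) * v) *
      G.full.x (top D) (-((e : K) * βb) * v)) * q⁻¹ = (q * G.full.x b ((e : K) * v) * q⁻¹) *
      (q * G.full.x (top D) (-((e : K) * βb) * v) * q⁻¹) by group, hβb, hqz, mul_assoc,
      G.full.x_add, show βb * ((e : K) * v) + -((e : K) * βb) * v = 0 by ring, G.full.x_zero,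
      mul_one]
    exact hP (x_mem_rat G σ _ (by rw [map_mul, hσe, hv]))
  obtain ⟨l, hl3, hσl, hsc⟩ := exists_scalar σ P₀ hE hY p hZ hc0 hβ
  exfalso
  have hl0 : l ≠ 0 := fun e' => by rw [e'] at hl3; simp at hl3
  -- the scalar as a torus element
  have hz : φ (sc l hl3) = G.full.hr a l * G.full.hr b (l ^ 2) := by
    let w₁ : K → SpecialLinearGroup (Fin 3) K := fun v =>
      SpecialLinearGroup.transvection n01 v * SpecialLinearGroup.transvection n01.symm (-v⁻¹) *
        SpecialLinearGroup.transvection n01 v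
    let w₂ : K → SpecialLinearGroup (Fin 3) K := fun v =>
      SpecialLinearGroup.transvection n12 v * SpecialLinearGroup.transvection n12.symm (-v⁻¹) *
        SpecialLinearGroup.transvection n12 v
    have hw₁ : ∀ v, φ (w₁ v) = G.full.nr a v := fun v => by
      simp only [w₁, map_mul, t01, t10]; rfl
    have hw₂ : ∀ v, φ (w₂ v) = G.full.nr b ((e : K) * v) := fun v => by
      simp only [w₂, map_mul, t12, t21, Full.nr, mul_inv, mul_neg]
      rw [inv_eq_of_mul_eq_one_right hee]
    have e1 : sc l hl3 = w₁ l * w₁ (-1) * (w₂ (l ^ 2) * w₂ (-1)) := by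
      refine Subtype.ext ?_
      show _ = (SpecialLinearGroup.transvection n01 l).1 *
        (SpecialLinearGroup.transvection n01.symm (-l⁻¹)).1 *
        (SpecialLinearGroup.transvection n01 l).1 *
        ((SpecialLinearGroup.transvection n01 (-1)).1 *
        (SpecialLinearGroup.transvection n01.symm (-(-1)⁻¹)).1 *
        (SpecialLinearGroup.transvection n01 (-1)).1) *
        (((SpecialLinearGroup.transvection n12 (l ^ 2)).1 *
        (SpecialLinearGroup.transvection n12.symm (-(l ^ 2)⁻¹)).1 *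
        (SpecialLinearGroup.transvection n12 (l ^ 2)).1) *
        ((SpecialLinearGroup.transvection n12 (-1)).1 *
        (SpecialLinearGroup.transvection n12.symm (-(-1)⁻¹)).1 *
        (SpecialLinearGroup.transvection n12 (-1)).1))
      ext x y
      fin_cases x <;> fin_cases y <;>
        simp [sc, SpecialLinearGroup.transvection_coe, Matrix.mul_apply, Fin.sum_univ_three,
          Matrix.single_apply, hl0] <;> grind
    rw [e1, map_mul φ (w₁ l * w₁ (-1)), map_mul φ (w₁ l), map_mul φ (w₂ (l ^ 2)), hw₁, hw₁, hw₂, hw₂]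
    show G.full.hr a l * _ = _
    congr 1
    have hu : (e : K) ≠ 0 := left_ne_zero_of_mul_eq_one hee
    have e2 : G.full.nr b ((e : K) * -1) = (G.full.nr b (e : K))⁻¹ := by
      rw [G.full.nr_inv, mul_neg, mul_one]
    have e3 := G.full.hr_mul hbp.1 (pow_ne_zero 2 hl0) hu
    rw [show G.full.nr b ((e : K) * l ^ 2) * G.full.nr b ((e : K) * -1) =
      G.full.hr b ((e : K) * l ^ 2) * (G.full.hr b (e : K))⁻¹ by
        rw [e2]; simp only [Full.hr]; group, mul_comm (e : K), ← e3, mul_inv_cancel_right]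
  have hZmem : q * φ (sc l hl3) * q⁻¹ ∈ P := hsc
  set z := φ (sc l hl3)
  have hconj : ∀ {r : ℕ}, r < D.nroots → ∀ v,
      z * G.full.x r v * z⁻¹ = G.full.x r (l ^ (T.pairT a r + 2 * T.pairT b r) * v) := by
    intro r hr v
    rw [hz, show G.full.hr a l * G.full.hr b (l ^ 2) * G.full.x r v *
      (G.full.hr a l * G.full.hr b (l ^ 2))⁻¹ = G.full.hr a l * (G.full.hr b (l ^ 2) *
        G.full.x r v * (G.full.hr b (l ^ 2))⁻¹) * (G.full.hr a l)⁻¹ by group,
      hr_x G hbp.1 hr (pow_ne_zero 2 hl0), hr_x G hap.1 hr hl0, ← mul_assoc, zpow_add₀ hl0,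
      ← zpow_natCast l 2, ← _root_.zpow_mul]
    rfl
  have hmod : ∀ n : ℤ, l ^ n = l ^ (n % 3) := fun n => by
    conv_lhs => rw [← Int.emod_add_mul_ediv n 3]
    rw [zpow_add₀ hl0, _root_.zpow_mul, show l ^ (3 : ℤ) = 1 by
      rw [show (3 : ℤ) = ((3 : ℕ) : ℤ) from rfl, zpow_natCast, hl3], _root_.one_zpow, mul_one]
  have hztop : ∀ v, z * G.full.x (top D) v * z⁻¹ = G.full.x (top D) v := fun v => by
    rw [hconj F.top_lt, hmod, htop, zpow_zero, one_mul]
  set χ := l ^ (T.pairT a s + 2 * T.pairT b s) with hχ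
  -- a rational element moved by the scalar
  have h1 : G.full.x s χ * G.full.x (top D) (γ * χ - γ) ∈ P := by
    have hx : G.full.x s (1 : K) ∈ P := hP (x_mem_rat G σ s (map_one σ))
    have e1 : G.full.x s (1 : K) =
        q * (G.full.x s 1 * G.full.x (top D) (-γ)) * q⁻¹ := by
      rw [show q * (G.full.x s 1 * G.full.x (top D) (-γ)) * q⁻¹ = (q * G.full.x s 1 * q⁻¹) *
        (q * G.full.x (top D) (-γ) * q⁻¹) by group, hγ, hqz, mul_assoc, G.full.x_add]
      simp [G.full.x_zero]
    have e2 : G.full.x s χ * G.full.x (top D) (γ * χ - γ) =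
        q * z * q⁻¹ * G.full.x s 1 * (q * z * q⁻¹)⁻¹ := by
      rw [e1, show q * z * q⁻¹ * (q * (G.full.x s 1 * G.full.x (top D) (-γ)) * q⁻¹) *
        (q * z * q⁻¹)⁻¹ = q * ((z * G.full.x s 1 * z⁻¹) *
          (z * G.full.x (top D) (-γ) * z⁻¹)) * q⁻¹ by group, hconj hsp.1, hztop, mul_one, ← hχ,
        show q * (G.full.x s χ * G.full.x (top D) (-γ)) * q⁻¹ = (q * G.full.x s χ * q⁻¹) *
          (q * G.full.x (top D) (-γ) * q⁻¹) by group, hγ, hqz, mul_assoc, G.full.x_add]
      congr 2
      ring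
    rw [e2]
    exact mul_mem (mul_mem hZmem hx) (inv_mem hZmem)
  have hy : G.full.x s' (1 : K) ∈ P := hP (x_mem_rat G σ s' (map_one σ))
  have hne : s ≠ s' := fun e' => by rw [e'] at hss; simp at hss
  have h2 := G.full.x_comm hsp'.1 hsp.1 hne ((G.ord_spec hsp').2 s hsp) (1 : K) χ
  rw [G.full.cert.commWord_eq hsp'.1 hsp.1, hm] at h2
  simp only [rhsWord, List.map_cons, List.map_nil, List.prod_cons, List.prod_nil, mul_one,
    pow_one] at h2
  have h3 : G.full.x (top D) ((m : K) * -1 * χ) ∈ P := by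
    have hc1 : ∀ {r : ℕ}, IsPos D r → ∀ v w : K,
        Commute (G.full.x (top D) v) (G.full.x r w) := fun hr v w =>
      (top_comm G F (G.x_mem_US (S := {r | IsPos D r}) hr w) v).symm
    have e1 : G.full.x s χ * G.full.x (top D) (γ * χ - γ) * G.full.x s' 1 *
        (G.full.x s χ * G.full.x (top D) (γ * χ - γ))⁻¹ * (G.full.x s' (1 : K))⁻¹ =
        G.full.x (top D) ((m : K) * -1 * χ) := by
      rw [show ∀ x y w : GL D.Idx K, x * y * w * (x * y)⁻¹ * w⁻¹ =
          x * (y * w * y⁻¹) * x⁻¹ * w⁻¹ from fun _ _ _ => by group,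
        (hc1 hsp' _ _).eq, mul_inv_cancel_right, h2,
        show ∀ p₁ p₂ w : GL D.Idx K, p₁ * p₂ * w * p₂⁻¹ * p₁⁻¹ =
          p₁ * (p₂ * w * p₂⁻¹) * p₁⁻¹ from fun _ _ _ => by group,
        ← (hc1 hsp _ _).eq, mul_inv_cancel_right, ← (hc1 hsp' _ _).eq, mul_inv_cancel_right]
    rw [← e1]
    exact mul_mem (mul_mem (mul_mem h1 hy) (inv_mem h1)) (inv_mem hy)
  have hl1 : l ≠ 1 := fun e' => hσl (by rw [e', map_one])
  have hm0 : (m : K) * -1 ≠ 0 := by
    have h30 : (3 : K) ≠ 0 := fun e' => hl1 (by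
      have : (l - 1) ^ 3 = 0 := by linear_combination hl3 + (l - l ^ 2) * e'
      exact sub_eq_zero.mp (pow_eq_zero_iff three_ne_zero |>.mp this))
    rcases Int.natAbs_eq m with e' | e' <;> rw [e'] <;> rcases hm' with e'' | e'' <;>
      simp [e'', h30]
  have h4 : σ χ = χ := by
    have := hA _ h3
    rw [map_mul, map_mul, map_intCast, map_neg, map_one] at this
    exact mul_left_cancel₀ hm0 this
  rw [hχ, hmod] at h4
  have : (T.pairT a s + 2 * T.pairT b s) % 3 = 1 ∨ (T.pairT a s + 2 * T.pairT b s) % 3 = 2 := by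
    omega
  rcases this with e' | e' <;> rw [e'] at h4
  · exact hσl (by simpa using h4)
  · refine hσl ?_
    have h5 : σ (l ^ 2) = l ^ 2 := by simpa using h4
    have h6 : (l ^ 2) ^ 2 = l := by linear_combination l * hl3
    rw [← h6, map_pow, h5]

end SubfieldMax

end CfsgLib.Chev
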